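import Mathlib

/-!
A variant of the fixed point theorem for Frobenius groups acting on abelian groups.
-/

set_option autoImplicit false

namespace Cfsg.Agent.S3Fpf

open Subgroup

/-- If `x` has no fixed point on `A` and the nontrivial elements of `B` do not commute with the
powers of `x`, then `B` fixes all `|B|`-th powers. -/
theorem fixed_pow_card {E A : Type*} [Group E] [CommGroup A] (φ : E →* MulAut A)
    (B : Subgroup E) [Finite B] (x : E) {r : ℕ} (hr : 0 < r) (hxr : x ^ r = 1)
    (hxB : ∀ b ∈ B, x * b * x⁻¹ ∈ B)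
    (hfree : ∀ i, 0 < i → i < r → ∀ b ∈ B, Commute (x ^ i) b → b = 1)
    (hfix : ∀ v, φ x v = v → v = 1) {c : E} (hc : c ∈ B) (v : A) :
    φ c (v ^ Nat.card B) = v ^ Nat.card B := by
  have := Fintype.ofFinite B
  have hpowB : ∀ i : ℕ, ∀ b ∈ B, x ^ i * b * (x ^ i)⁻¹ ∈ B := by
    intro i
    induction i with
    | zero => simp
    | succ i ih =>
      intro b hb
      have := hxB _ (ih b hb)
      convert this using 1
      rw [pow_succ', mul_inv_rev]
      group
  have hcomp : ∀ (a b : E) (w : A), φ a (φ b w) = φ (a * b) w := fun a b w => by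
    rw [map_mul]; rfl
  have hN : ∀ w : A, φ c (∏ b : B, φ b w) = ∏ b : B, φ b w := fun w => by
    simp only [map_prod, hcomp]
    exact Fintype.prod_bijective (fun b : B => (⟨c, hc⟩ : B) * b) (Group.mulLeft_bijective _)
      (fun b : B => φ (c * b) w) (fun b : B => φ b w) fun b => rfl
  have horb : ∀ w : A, ∏ i ∈ Finset.range r, φ (x ^ i) w = 1 := fun w => by
    refine hfix _ ?_
    simp only [map_prod, hcomp, ← pow_succ']
    obtain ⟨r', rfl⟩ := Nat.exists_eq_add_of_le' (show 1 ≤ r from hr)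
    have h1 := Finset.prod_range_succ' (fun i => φ (x ^ i) w) r'
    rw [Finset.prod_range_succ, h1, hxr, pow_zero]
  have key : ∏ i ∈ Finset.range r, ∏ b : B, φ ((b : E) * x ^ i * (b : E)⁻¹) v = 1 := by
    rw [Finset.prod_comm]
    refine Finset.prod_eq_one fun b _ => ?_
    have h1 := congrArg (φ (b : E)) (horb (φ (b : E)⁻¹ v))
    rw [map_prod, map_one] at h1
    simpa only [hcomp, ← mul_assoc] using h1
  obtain ⟨r', rfl⟩ := Nat.exists_eq_add_of_le' (show 1 ≤ r from hr)
  rw [Finset.prod_range_succ'] at key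
  have hsum : φ c (∏ i ∈ Finset.range r', ∏ b : B, φ ((b : E) * x ^ (i + 1) * (b : E)⁻¹) v)
      = ∏ i ∈ Finset.range r', ∏ b : B, φ ((b : E) * x ^ (i + 1) * (b : E)⁻¹) v := by
    rw [map_prod]
    refine Finset.prod_congr rfl fun i hi => ?_
    let f : B → B := fun b => ⟨(b : E) * (x ^ (i + 1) * (b : E)⁻¹ * (x ^ (i + 1))⁻¹),
      B.mul_mem b.2 (hpowB _ _ (B.inv_mem b.2))⟩
    have hf : Function.Bijective f := by
      refine Finite.injective_iff_bijective.mp fun a b hab => ?_
      have h1 : (a : E) * x ^ (i + 1) * (a : E)⁻¹ = (b : E) * x ^ (i + 1) * (b : E)⁻¹ := by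
        have h2 := congrArg (fun t : B => (t : E) * x ^ (i + 1)) hab
        simpa [f, mul_assoc] using h2
      have h3 : Commute (x ^ (i + 1)) ((b : E)⁻¹ * a) := by
        calc x ^ (i + 1) * ((b : E)⁻¹ * a)
            = (b : E)⁻¹ * ((b : E) * x ^ (i + 1) * (b : E)⁻¹) * a := by group
          _ = (b : E)⁻¹ * ((a : E) * x ^ (i + 1) * (a : E)⁻¹) * a := by rw [h1]
          _ = (b : E)⁻¹ * a * x ^ (i + 1) := by group
      exact Subtype.ext (inv_mul_eq_one.mp (hfree (i + 1) (Nat.succ_pos i)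
        (Nat.succ_lt_succ (Finset.mem_range.mp hi)) _ (B.mul_mem (B.inv_mem b.2) a.2) h3)).symm
    have e : ∏ b : B, φ ((b : E) * x ^ (i + 1) * (b : E)⁻¹) v
        = ∏ b : B, φ b (φ (x ^ (i + 1)) v) := by
      refine Fintype.prod_bijective f hf _ _ fun b => ?_
      simp only [f, hcomp]
      congr 2
      group
    rw [e, hN]
  have e0 : ∏ b : B, φ ((b : E) * x ^ 0 * (b : E)⁻¹) v = v ^ Nat.card B := by
    simp [Nat.card_eq_fintype_card]
  rw [e0] at key
  have h2 := congrArg (φ c) key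
  rw [map_mul, hsum, map_one] at h2
  exact mul_left_cancel (h2.trans key.symm)

end Cfsg.Agent.S3Fpf
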