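import Cfsg.Agent.S3Fpf.Centralised
import Cfsg.Agent.S3Fpf.Frobenius

/-!
An invariant subgroup of prime power order normalising an invariant abelian subgroup of order
coprime to its own and to the module centralises it.
-/

set_option autoImplicit false

open Subgroup
open scoped commutatorElement

namespace Cfsg.Agent.S3Fpf

universe v

variable {V : Type v} [AddCommGroup V] [Finite V]
variable {A Q X : Subgroup (AddMonoid.End V)ˣ} {u t : (AddMonoid.End V)ˣ}

theorem mem_normalizer_of_forall {G : Type*} [Group G] [Finite G] {H : Subgroup G} {g : G}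
    (h : ∀ x ∈ H, g * x * g⁻¹ ∈ H) : g ∈ normalizer (H : Set G) := by
  refine mem_normalizer_iff.mpr fun x => ⟨h x, fun hx => ?_⟩
  obtain ⟨⟨y, hy⟩, hy'⟩ := Finite.surjective_of_injective
    (f := fun y : H => (⟨g * y * g⁻¹, h y y.2⟩ : H)) (fun a b e =>
      Subtype.ext (mul_left_cancel (mul_right_cancel (congrArg Subtype.val e)))) ⟨g * x * g⁻¹, hx⟩
  have e : g * y * g⁻¹ = g * x * g⁻¹ := congrArg Subtype.val hy'
  exact mul_left_cancel (mul_right_cancel e) ▸ hy

theorem inv_conj_mem {G : Type*} [Group G] [Finite G] {H : Subgroup G} {g : G}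
    (h : ∀ x ∈ H, g * x * g⁻¹ ∈ H) {x : G} (hx : x ∈ H) : g⁻¹ * x * g ∈ H := by
  have := (mem_normalizer_iff.mp (inv_mem (mem_normalizer_of_forall h)) x).mp hx
  rwa [inv_inv] at this

theorem Good.norm' (hQ : Good A u t Q) : ∀ a ∈ A, ∀ q ∈ Q, a * q * a⁻¹ ∈ Q := fun _ ha _ hq =>
  hQ.conj_mem ha hq

/-- The subgroup generated by the `quo u y`. -/
def bracket (u : (AddMonoid.End V)ˣ) (Q : Subgroup (AddMonoid.End V)ˣ) :
    Subgroup (AddMonoid.End V)ˣ :=
  closure {k | ∃ y ∈ Q, quo u y = k}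

theorem quo_mem_bracket {y : (AddMonoid.End V)ˣ} (hy : y ∈ Q) : quo u y ∈ bracket u Q :=
  subset_closure ⟨y, hy, rfl⟩

theorem bracket_le (R : Rep A u t) (hQ : Good A u t Q) : bracket u Q ≤ Q :=
  (closure_le _).mpr (by
    rintro k ⟨y, hy, rfl⟩; exact Q.mul_mem (Q.inv_mem hy) (hQ.conj_mem R.u_mem hy))

theorem exists_quo (R : Rep A u t) (hQ : Good A u t Q) (hab : ∀ p ∈ Q, ∀ q ∈ Q, Commute p q)
    {k : (AddMonoid.End V)ˣ} (hk : k ∈ bracket u Q) : ∃ y ∈ Q, quo u y = k := by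
  induction hk using closure_induction with
  | mem k hk => exact hk
  | one => exact ⟨1, Q.one_mem, by simp [quo]⟩
  | mul a b _ _ ia ib =>
    obtain ⟨y, hy, rfl⟩ := ia
    obtain ⟨z, hz, rfl⟩ := ib
    refine ⟨y * z, Q.mul_mem hy hz, ?_⟩
    have c : Commute z⁻¹ (quo u y) :=
      hab _ (Q.inv_mem hz) _ (Q.mul_mem (Q.inv_mem hy) (hQ.conj_mem R.u_mem hy))
    calc quo u (y * z) = (z⁻¹ * quo u y) * (u * z * u⁻¹) := by simp only [quo]; group
      _ = _ := by rw [c.eq]; simp only [quo]; group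
  | inv a _ ia =>
    obtain ⟨y, hy, rfl⟩ := ia
    refine ⟨y⁻¹, Q.inv_mem hy, ?_⟩
    have c : Commute y (u * y⁻¹ * u⁻¹) := hab _ hy _ (hQ.conj_mem R.u_mem (Q.inv_mem hy))
    calc quo u y⁻¹ = y * (u * y⁻¹ * u⁻¹) := by simp only [quo]; group
      _ = _ := by rw [c.eq]; simp only [quo]; group

theorem bracket_fpf (R : Rep A u t) (hQ : Good A u t Q) (hab : ∀ p ∈ Q, ∀ q ∈ Q, Commute p q)
    {k : (AddMonoid.End V)ˣ} (hk : k ∈ bracket u Q) (hu : Commute u k) : k = 1 := by
  obtain ⟨y, hy, rfl⟩ := exists_quo R hQ hab hk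
  set k := quo u y with hkdef
  have hf : u * k * u⁻¹ = k := mul_inv_eq_iff_eq_mul.mpr hu.eq
  have h1 : u * y * u⁻¹ = y * k := by simp only [hkdef, quo]; group
  have h2 : u * (u * y * u⁻¹) * u⁻¹ = y * k * k := by
    calc u * (u * y * u⁻¹) * u⁻¹ = u * (y * k) * u⁻¹ := by rw [h1]
      _ = (u * y * u⁻¹) * (u * k * u⁻¹) := by group
      _ = _ := by rw [h1, hf]
  have h3 : y * (k * k * k) = y * 1 := by
    calc y * (k * k * k) = (u * y * u⁻¹) * k * k := by rw [h1]; simp only [mul_assoc]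
      _ = (u * y * u⁻¹) * (u * k * u⁻¹) * (u * k * u⁻¹) := by rw [hf]
      _ = u * (y * k * k) * u⁻¹ := by group
      _ = u ^ 3 * y * (u ^ 3)⁻¹ := by
          rw [← h2]; simp only [pow_succ, pow_zero, one_mul, mul_inv_rev, mul_assoc]
      _ = y * 1 := by rw [R.u_three]; group
  have h4 : k ^ 3 = 1 := by
    rw [← mul_left_cancel h3]; simp only [pow_succ, pow_zero, one_mul]
  exact orderOf_eq_one_iff.mp (Nat.eq_one_of_dvd_coprimes
    ((hQ.cop.coprime_dvd_left (Subgroup.orderOf_dvd_natCard Q (bracket_le R hQ hk))).coprime_dvd_right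
      (by norm_num : 3 ∣ 6)) dvd_rfl (orderOf_dvd_of_pow_eq_one h4))

theorem bracket_norm (R : Rep A u t) (hQ : Good A u t Q) :
    ∀ a ∈ A, ∀ k ∈ bracket u Q, a * k * a⁻¹ ∈ bracket u Q := by
  suffices h : A ≤ normalizer (bracket u Q : Set (AddMonoid.End V)ˣ) from
    fun a ha k hk => (mem_normalizer_iff.mp (h ha) k).mp hk
  refine R.mem_of_gen (mem_normalizer_of_forall fun k hk => ?_) (mem_normalizer_of_forall fun k hk => ?_)
  · induction hk using closure_induction with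
    | mem k hk =>
      obtain ⟨y, hy, rfl⟩ := hk
      exact subset_closure ⟨u * y * u⁻¹, hQ.conj_mem R.u_mem hy, by simp only [quo]; group⟩
    | one => simp
    | mul a b _ _ ia ib => rw [← conj_mul]; exact mul_mem ia ib
    | inv a _ ia => rw [← conj_inv]; exact inv_mem ia
  · induction hk using closure_induction with
    | mem k hk =>
      obtain ⟨y, hy, rfl⟩ := hk
      have hz : u⁻¹ * (t * y * t⁻¹) * u⁻¹⁻¹ ∈ Q :=
        hQ.conj_mem (A.inv_mem R.u_mem) (hQ.conj_mem R.t_mem hy)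
      have e : t * quo u y * t⁻¹ = (quo u (u⁻¹ * (t * y * t⁻¹) * u⁻¹⁻¹))⁻¹ := by
        calc t * quo u y * t⁻¹ = (t * y * t⁻¹)⁻¹ * ((t * u * t⁻¹) * (t * y * t⁻¹) * (t * u * t⁻¹)⁻¹) := by
              simp only [quo]; group
          _ = _ := by rw [R.tut]; simp only [quo]; group
      rw [e]
      exact inv_mem (quo_mem_bracket hz)
    | one => simp
    | mul a b _ _ ia ib => rw [← conj_mul]; exact mul_mem ia ib
    | inv a _ ia => rw [← conj_inv]; exact inv_mem ia

theorem bracket_surj (R : Rep A u t) (hQ : Good A u t Q) (hab : ∀ p ∈ Q, ∀ q ∈ Q, Commute p q)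
    {a : (AddMonoid.End V)ˣ} (ha : a ∈ A) (hfix : ∀ k, Commute a k → Commute u k)
    {k : (AddMonoid.End V)ˣ} (hk : k ∈ bracket u Q) : ∃ y ∈ bracket u Q, quo a y = k := by
  have hn := bracket_norm R hQ
  let f : bracket u Q → bracket u Q := fun y => ⟨quo a y, mul_mem (inv_mem y.2) (hn a ha _ y.2)⟩
  have hf : Function.Injective f := by
    intro y y' e
    have e' : quo a (y : (AddMonoid.End V)ˣ) = quo a (y' : (AddMonoid.End V)ˣ) := congrArg Subtype.val e
    have h1 : a * ((y : (AddMonoid.End V)ˣ) * (y' : (AddMonoid.End V)ˣ)⁻¹) * a⁻¹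
        = (y : (AddMonoid.End V)ˣ) * (y' : (AddMonoid.End V)ˣ)⁻¹ := by
      calc a * ((y : (AddMonoid.End V)ˣ) * (y' : (AddMonoid.End V)ˣ)⁻¹) * a⁻¹
          = y * quo a y * ((y' : (AddMonoid.End V)ˣ) * quo a y')⁻¹ := by simp only [quo]; group
        _ = _ := by rw [e']; group
    exact Subtype.ext (mul_inv_eq_one.mp (bracket_fpf R hQ hab (mul_mem y.2 (inv_mem y'.2))
      (hfix _ (mul_inv_eq_iff_eq_mul.mp h1))))
  obtain ⟨y, hy⟩ := Finite.surjective_of_injective hf ⟨k, hk⟩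
  exact ⟨y, y.2, congrArg Subtype.val hy⟩

theorem bracket_decompose (R : Rep A u t) (hQ : Good A u t Q) (hab : ∀ p ∈ Q, ∀ q ∈ Q, Commute p q)
    {q : (AddMonoid.End V)ˣ} (hq : q ∈ Q) :
    ∃ y ∈ bracket u Q, ∃ e ∈ Q, Commute u e ∧ q = y * e := by
  obtain ⟨y, hy, he⟩ := bracket_surj R hQ hab R.u_mem (fun _ h => h) (quo_mem_bracket hq)
  have hyQ := bracket_le R hQ hy
  refine ⟨y, hy, y⁻¹ * q, Q.mul_mem (Q.inv_mem hyQ) hq, ?_, by group⟩
  refine mul_inv_eq_iff_eq_mul.mp ?_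
  calc u * (y⁻¹ * q) * u⁻¹ = (y * quo u y)⁻¹ * (q * quo u q) := by simp only [quo]; group
    _ = (quo u q)⁻¹ * ((y⁻¹ * q) * quo u q) := by rw [he]; group
    _ = (quo u q)⁻¹ * (quo u q * (y⁻¹ * q)) := by
        rw [(hab _ (Q.mul_mem (Q.inv_mem hyQ) hq) (quo u q)
          (Q.mul_mem (Q.inv_mem hq) (hQ.conj_mem R.u_mem hq))).eq]
    _ = y⁻¹ * q := by group

theorem mem_bracket_of_t_fixed (R : Rep A u t) (hQ : Good A u t Q)
    (hab : ∀ p ∈ Q, ∀ q ∈ Q, Commute p q) {c : (AddMonoid.End V)ˣ} (hc : c ∈ Q) (ht : Commute t c) :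
    c ∈ bracket u Q := by
  obtain ⟨y, hy, e, he, hue, rfl⟩ := bracket_decompose R hQ hab hc
  have h0 : t * (y * e) * t⁻¹ = y * e := mul_inv_eq_iff_eq_mul.mpr ht.eq
  rw [← conj_mul, hQ.inverted R he hue] at h0
  have h1 : e * e ∈ bracket u Q := by
    have e1 : e * e = y⁻¹ * (t * y * t⁻¹) := by
      calc e * e = y⁻¹ * (y * e) * e := by group
        _ = y⁻¹ * (t * y * t⁻¹ * e⁻¹) * e := by rw [h0]
        _ = _ := by group
    rw [e1]; exact mul_mem (inv_mem hy) (bracket_norm R hQ t R.t_mem y hy)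
  have h2 := bracket_fpf R hQ hab h1 (hue.mul_right hue)
  rw [eq_one_of_sq (hQ.odd.of_dvd_nat (Subgroup.orderOf_dvd_natCard Q he)) h2, mul_one]
  exact hy

theorem fix_dif (R : Rep A u t) (hQ : Good A u t Q) (hab : ∀ p ∈ Q, ∀ q ∈ Q, Commute p q)
    (hcop : (Nat.card Q).Coprime (Nat.card V)) {k e : (AddMonoid.End V)ˣ} (hk : k ∈ bracket u Q)
    (he : e ∈ Q) (hue : Commute u e) (v : V) :
    (k : AddMonoid.End V) (dif e v) = dif e v := by
  let W : AddSubgroup V :=
    { carrier := Set.range (dif e)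
      zero_mem' := ⟨0, by simp [dif]⟩
      add_mem' := by
        rintro _ _ ⟨a, rfl⟩ ⟨b, rfl⟩; exact ⟨a + b, by simp only [dif, map_add]; abel⟩
      neg_mem' := by rintro _ ⟨a, rfl⟩; exact ⟨-a, dif_map_neg e a⟩ }
  have hst : ∀ g : (AddMonoid.End V)ˣ, Commute g e → g ∈ stab W := fun g hg w hw => by
    obtain ⟨a, rfl⟩ := hw
    exact ⟨(g : AddMonoid.End V) a, (apply_dif hg a).symm⟩
  have huW := hst u hue
  have hQW : Q ≤ stab W := fun q hq => hst q (hab q hq e he)
  obtain ⟨y, hy, rfl⟩ := exists_quo R hQ hab hk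
  have hV : ∀ w : W, ((res W ⟨u, huW⟩ : (AddMonoid.End W)ˣ) : AddMonoid.End W) w = w → w = 0 := by
    rintro ⟨w, a, rfl⟩ hw
    refine Subtype.ext (dif_eq_zero.mpr (fixed_of_sq (orderOf_coprime hcop he) ?_))
    exact hQ.fix_fixed R he hue (congrArg Subtype.val hw)
  have h := fixed_by_abelian (u := res W ⟨u, huW⟩) (B := resSub W Q)
    (by rw [← map_pow]; exact (congrArg (res W) (Subtype.ext R.u_three)).trans (map_one _)) hV
    (fun p hp => by
      obtain ⟨g, hg, rfl⟩ := exists_of_mem_resSub hp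
      rw [← map_inv, ← map_mul, ← map_mul]
      exact mem_resSub (hQ.conj_mem R.u_mem hg))
    (fun p hp q hq => by
      obtain ⟨g, hg, rfl⟩ := exists_of_mem_resSub hp
      obtain ⟨g', hg', rfl⟩ := exists_of_mem_resSub hq
      exact (show Commute g g' from Subtype.ext (hab _ hg _ hg').eq).map _)
    ((hcop.coprime_dvd_left (card_resSub_dvd hQW)).coprime_dvd_right
      (AddSubgroup.card_addSubgroup_dvd_card W)) (mem_resSub (g := ⟨y, hQW hy⟩) hy)
  exact res_conj_eq (mul_inv_eq_iff_eq_mul.mp h) _ ⟨v, rfl⟩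

/-- Fixed vectors of the `t`-centralised part of `Q` are fixed by the bracket. -/
theorem fix_of_fix_t (R : Rep A u t) (hQ : Good A u t Q) (hab : ∀ p ∈ Q, ∀ q ∈ Q, Commute p q)
    (hcop : (Nat.card Q).Coprime (Nat.card V)) {v : V}
    (hv : ∀ c ∈ Q, Commute t c → (c : AddMonoid.End V) v = v) {k : (AddMonoid.End V)ˣ}
    (hk : k ∈ bracket u Q) : (k : AddMonoid.End V) v = v := by
  have hn := hQ.norm'
  have hkQ := bracket_le R hQ hk
  -- `k` splits for every reflection
  have split : ∀ a b : (AddMonoid.End V)ˣ, b ∈ A → a = b * t * b⁻¹ →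
      (∀ c ∈ Q, Commute t c → a * c * a⁻¹ = c⁻¹ → c = 1) →
      ∃ y ∈ Q, dif (quo a y) v = dif k v := by
    intro a b hb hab' hmeet
    have haA : a ∈ A := hab' ▸ mul_mem (mul_mem hb R.t_mem) (inv_mem hb)
    have haa : a * a = 1 := by
      rw [hab']
      calc b * t * b⁻¹ * (b * t * b⁻¹) = b * (t * t) * b⁻¹ := by group
        _ = 1 := by rw [R.t_two]; group
    have hfa : ∀ c ∈ Q, Commute a (c * (a * c * a⁻¹)) := fun c hc => mul_inv_eq_iff_eq_mul.mp (by
      calc a * (c * (a * c * a⁻¹)) * a⁻¹ = (a * c * a⁻¹) * ((a * a) * c * (a * a)⁻¹) := by group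
        _ = (a * c * a⁻¹) * c := by rw [haa]; group
        _ = c * (a * c * a⁻¹) := (hab _ (hn a haA c hc) _ hc).eq)
    let Ct := {c : (AddMonoid.End V)ˣ // c ∈ Q ∧ Commute t c}
    let Ca := {c : (AddMonoid.End V)ˣ // c ∈ Q ∧ Commute a c}
    let f : Ct → Ca := fun c => ⟨c.1 * (a * c.1 * a⁻¹), Q.mul_mem c.2.1 (hn a haA _ c.2.1), hfa _ c.2.1⟩
    let g : Ca → Ct := fun c => ⟨b⁻¹ * c.1 * b⁻¹⁻¹, hn _ (A.inv_mem hb) _ c.2.1, by
      have h := c.2.2.map (MulAut.conj b⁻¹).toMonoidHom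
      simp only [MulEquiv.coe_toMonoidHom, MulAut.conj_apply] at h
      rwa [show b⁻¹ * a * b⁻¹⁻¹ = t by rw [hab']; group] at h⟩
    have hg : Function.Injective g := fun c d e => Subtype.ext
      (mul_left_cancel (mul_right_cancel (congrArg Subtype.val e)))
    have hf : Function.Injective f := by
      intro c d e
      have e' : c.1 * (a * c.1 * a⁻¹) = d.1 * (a * d.1 * a⁻¹) := congrArg Subtype.val e
      have hcd : Commute t (c.1 * d.1⁻¹) := c.2.2.mul_right d.2.2.inv_right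
      refine Subtype.ext (mul_inv_eq_one.mp (hmeet _ (Q.mul_mem c.2.1 (Q.inv_mem d.2.1)) hcd ?_))
      have h1 : (c.1 * d.1⁻¹) * (a * (c.1 * d.1⁻¹) * a⁻¹) = 1 := by
        calc (c.1 * d.1⁻¹) * (a * (c.1 * d.1⁻¹) * a⁻¹)
            = c.1 * (d.1⁻¹ * (a * c.1 * a⁻¹)) * (a * d.1 * a⁻¹)⁻¹ := by group
          _ = c.1 * ((a * c.1 * a⁻¹) * d.1⁻¹) * (a * d.1 * a⁻¹)⁻¹ := by
              rw [(hab _ (Q.inv_mem d.2.1) _ (hn a haA _ c.2.1)).eq]
          _ = (c.1 * (a * c.1 * a⁻¹)) * ((a * d.1 * a⁻¹) * d.1)⁻¹ := by group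
          _ = (c.1 * (a * c.1 * a⁻¹)) * (d.1 * (a * d.1 * a⁻¹))⁻¹ := by
              rw [(hab _ (hn a haA _ d.2.1) _ d.2.1).eq]
          _ = 1 := by rw [e', mul_inv_cancel]
      exact eq_inv_of_mul_eq_one_right h1
    have hfs : Function.Surjective f := fun d => by
      obtain ⟨c, hc⟩ := Finite.surjective_of_injective (hg.comp hf) (g d)
      exact ⟨c, hg hc⟩
    obtain ⟨⟨c, hcQ, hct⟩, hc⟩ :=
      hfs ⟨k * (a * k * a⁻¹), Q.mul_mem hkQ (hn a haA k hkQ), hfa k hkQ⟩
    have hc' : c * (a * c * a⁻¹) = k * (a * k * a⁻¹) := congrArg Subtype.val hc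
    set w := c⁻¹ * k with hw
    have hwQ : w ∈ Q := Q.mul_mem (Q.inv_mem hcQ) hkQ
    have hwa : a * w * a⁻¹ = w⁻¹ := by
      refine eq_inv_of_mul_eq_one_right ?_
      calc w * (a * w * a⁻¹) = c⁻¹ * (k * (a * c * a⁻¹)⁻¹) * (a * k * a⁻¹) := by simp only [hw]; group
        _ = c⁻¹ * ((a * c * a⁻¹)⁻¹ * k) * (a * k * a⁻¹) := by
            rw [(hab _ hkQ _ (Q.inv_mem (hn a haA c hcQ))).eq]
        _ = ((a * c * a⁻¹) * c)⁻¹ * (k * (a * k * a⁻¹)) := by group
        _ = 1 := by rw [(hab _ (hn a haA c hcQ) _ hcQ).eq, hc', inv_mul_cancel]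
    obtain ⟨m, hm⟩ := exists_pow_eq_self_of_coprime (x := w) (n := 2)
      (Nat.coprime_two_left.mpr (hQ.odd.of_dvd_nat (Subgroup.orderOf_dvd_natCard Q hwQ)))
    refine ⟨(w ^ m)⁻¹, Q.inv_mem (Q.pow_mem hwQ m), ?_⟩
    have hq : quo a (w ^ m)⁻¹ = w := by
      have e : a * (w ^ m)⁻¹ * a⁻¹ = w ^ m := by
        rw [← conj_inv, ← conj_pow, hwa, inv_pow, inv_inv]
      simp only [quo, inv_inv, e]
      rw [← pow_add, ← two_mul, pow_mul]; exact hm
    have hkc : k = w * c := by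
      rw [(hab _ hwQ _ hcQ).eq, hw, ← mul_assoc, mul_inv_cancel, one_mul]
    rw [hq]
    exact congrArg (fun x => x - v) ((congrArg (fun g : (AddMonoid.End V)ˣ => (g : AddMonoid.End V) v) hkc).trans
      ((mul_apply' w c v).trans (congrArg (w : AddMonoid.End V) (hv c hcQ hct)))).symm
  set t₂ := u * t * u⁻¹ with ht₂
  set t₃ := u * t₂ * u⁻¹ with ht₃
  have hmeet : ∀ a c : (AddMonoid.End V)ˣ, c ∈ Q → (∀ g, g = t * a → Commute (g * g * g) c) →
      Commute t c → a * c * a⁻¹ = c⁻¹ → c = 1 := by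
    intro a c hc h3 ht ha
    have e : (t * a) * c * (t * a)⁻¹ = c⁻¹ := by
      calc (t * a) * c * (t * a)⁻¹ = t * (a * c * a⁻¹) * t⁻¹ := by group
        _ = c⁻¹ := by rw [ha]; exact mul_inv_eq_iff_eq_mul.mpr ht.inv_right.eq
    have e3 := mul_inv_eq_iff_eq_mul.mpr (h3 _ rfl).eq
    have : c⁻¹ = c := by
      calc c⁻¹ = (t * a) * ((t * a) * ((t * a) * c * (t * a)⁻¹) * (t * a)⁻¹) * (t * a)⁻¹ := by
            rw [e, ← conj_inv, e, inv_inv, e]
        _ = (t * a * (t * a) * (t * a)) * c * (t * a * (t * a) * (t * a))⁻¹ := by group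
        _ = c := e3
    exact eq_one_of_inverted hQ.odd hc this.symm
  have hu3 : u * u * u = 1 := by rw [← R.u_three]; simp only [pow_succ, pow_zero, one_mul]
  obtain ⟨y₁, hy₁, e₁⟩ := split t 1 (one_mem _) (by group) fun c hc ht ha =>
    eq_one_of_inverted hQ.odd hc ((mul_inv_eq_iff_eq_mul.mpr ht.eq).symm.trans ha)
  obtain ⟨y₂, hy₂, e₂⟩ := split t₂ u R.u_mem rfl fun c hc => hmeet t₂ c hc (fun g hg => by
    rw [hg, ht₂, R.t_mul_refl, hu3]; exact Commute.one_left c)
  obtain ⟨y₃, hy₃, e₃⟩ := split t₃ (u * u) (mul_mem R.u_mem R.u_mem)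
    (by rw [ht₃, ht₂]; group) fun c hc => hmeet t₃ c hc (fun g hg => by
      have e : g = u * u := by
        rw [hg, ht₃, ht₂]
        calc t * (u * (u * t * u⁻¹) * u⁻¹) = (t * (u * t * u⁻¹)) * (u * t * u⁻¹)⁻¹ * u * (u * t * u⁻¹) * u⁻¹ := by group
          _ = u * (u * t * u⁻¹) * u * (u * t * u⁻¹) * u⁻¹ := by
              rw [R.t_mul_refl, R.rot.t_inv]
          _ = u * u * (t * (u * t * u⁻¹)) * u⁻¹ := by group
          _ = u * u := by rw [R.t_mul_refl, mul_inv_cancel_right]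
      rw [e, show u * u * (u * u) * (u * u) = (u * u * u) * (u * u * u) by group, hu3, mul_one]
      exact Commute.one_left c)
  obtain ⟨y, hy, hyk⟩ := exists_quo R hQ hab hk
  obtain ⟨y', hy', hyk'⟩ := bracket_surj R hQ hab (mul_mem R.u_mem R.u_mem)
    (fun g hg => by rw [R.u_sq] at hg; exact inv_inv u ▸ hg.inv_left) hk
  have h := five_dif R hn hab hy (bracket_le R hQ hy') hy₁ hy₂ hy₃ v
  have hcq : ∀ {a z : (AddMonoid.End V)ˣ}, a ∈ A → z ∈ Q → Commute (quo a z) k := fun ha hz =>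
    hab _ (Q.mul_mem (Q.inv_mem hz) (hn _ ha _ hz)) _ hkQ
  rw [hyk, hyk', e₃, dif_comm (hcq R.rot.t_mem hy₂), e₂, dif_comm (hcq R.t_mem hy₁),
    dif_comm (hcq R.t_mem hy₁), e₁] at h
  have hd : ∀ x : V, dif k (dif k x) = 0 → dif k x = 0 := fun x hx =>
    dif_eq_zero.mpr (fixed_of_sq (orderOf_coprime hcop hkQ) (dif_eq_zero.mp hx))
  exact dif_eq_zero.mp (hd _ (hd _ (hd _ (hd _ h))))

/-- The elements commuting with `t` preserve the bracket. -/
theorem norm_of_t_fixed (R : Rep A u t) (hQ : Good A u t Q) (hab : ∀ p ∈ Q, ∀ q ∈ Q, Commute p q)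
    (hcop : (Nat.card Q).Coprime (Nat.card V)) {x : (AddMonoid.End V)ˣ}
    (hxQ : ∀ q ∈ Q, x * q * x⁻¹ ∈ Q) (hxt : Commute t x) {k : (AddMonoid.End V)ˣ}
    (hk : k ∈ bracket u Q) : x⁻¹ * k * x ∈ bracket u Q := by
  obtain ⟨k', hk', e, he, hue, hke⟩ :=
    bracket_decompose R hQ hab (inv_conj_mem hxQ (bracket_le R hQ hk))
  suffices h : e = 1 by rw [hke, h, mul_one]; exact hk'
  refine eq_one_of_forall fun v => fixed_of_sq (orderOf_coprime hcop he) ?_
  show (e : AddMonoid.End V) (dif e v) = dif e v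
  set w := dif e v with hw
  have hv : ∀ c ∈ Q, Commute t c → (c : AddMonoid.End V) ((x : AddMonoid.End V) w) = (x : AddMonoid.End V) w := by
    intro c hc htc
    have h1 : x⁻¹ * c * x ∈ bracket u Q :=
      mem_bracket_of_t_fixed R hQ hab (inv_conj_mem hxQ hc) ((hxt.inv_right.mul_right htc).mul_right hxt)
    rw [← mul_apply', show c * x = x * (x⁻¹ * c * x) by group, mul_apply', fix_dif R hQ hab hcop h1 he hue]
  have h := fix_of_fix_t R hQ hab hcop hv hk
  have h1 : ((x⁻¹ * k * x : (AddMonoid.End V)ˣ) : AddMonoid.End V) w = w := by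
    rw [mul_apply', mul_apply', h, inv_apply_self]
  rw [hke, mul_apply'] at h1
  rwa [hw, apply_dif (Commute.refl e), fix_dif R hQ hab hcop hk' he hue, ← apply_dif (Commute.refl e),
    ← hw] at h1

/-- An invariant group of prime power order is generated by the fixed points of `u` and of the
reflections. -/
theorem le_of_fixed_le (R : Rep A u t) (hX : Good A u t X) {r : ℕ} [Fact r.Prime]
    (hr : IsPGroup r X) {H : Subgroup (AddMonoid.End V)ˣ}
    (hu : ∀ x ∈ X, Commute u x → x ∈ H) (h₁ : ∀ x ∈ X, Commute t x → x ∈ H)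
    (h₂ : ∀ x ∈ X, Commute (u * t * u⁻¹) x → x ∈ H)
    (h₃ : ∀ x ∈ X, Commute (u * (u * t * u⁻¹) * u⁻¹) x → x ∈ H) : X ≤ H := by
  classical
  set D := (commutator X).map X.subtype with hD
  have hDX : D ≤ X := map_subtype_le _
  let ψ : ∀ a ∈ A, X →* X := fun a ha =>
    { toFun := fun x => ⟨a * x * a⁻¹, hX.conj_mem ha x.2⟩
      map_one' := Subtype.ext (by simp)
      map_mul' := fun x y => Subtype.ext (by push_cast; group) }
  have hDn : A ≤ normalizer (D : Set (AddMonoid.End V)ˣ) := fun a ha => mem_normalizer_of_forall (by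
    rintro _ ⟨d, hd, rfl⟩
    refine ⟨ψ a ha d, ?_, rfl⟩
    have h1 : (commutator X).map (ψ a ha) ≤ commutator X := by
      rw [_root_.commutator_def, map_commutator]; exact commutator_mono le_top le_top
    exact h1 (mem_map_of_mem _ hd))
  have hof : ∀ z : X, Abelianization.of z = 1 → (z : (AddMonoid.End V)ˣ) ∈ D := fun z hz =>
    ⟨z, by rwa [← MonoidHom.mem_ker, Abelianization.ker_of] at hz, rfl⟩
  -- fixed points lift
  have hlift : ∀ a, ∀ ha : a ∈ A, (∀ y ∈ X, Commute a y → y ∈ H) → ∀ z : X,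
      Abelianization.of (ψ a ha z) = Abelianization.of z → ∃ y : X, (y : (AddMonoid.End V)ˣ) ∈ H ∧
        Abelianization.of y = Abelianization.of z := by
    intro a ha hH z hz
    obtain ⟨n, ⟨d, hd, rfl⟩, hc⟩ := hX.exists_fixed R hDX ha
      (fun c hc => hDn (zpowers_le.mpr ha hc)) (x := (z : (AddMonoid.End V)ˣ))
      (hof (z⁻¹ * ψ a ha z) (by rw [map_mul, map_inv, hz, inv_mul_cancel]))
    refine ⟨z * d, hH _ (X.mul_mem z.2 d.2) hc, ?_⟩
    rw [map_mul, show Abelianization.of d = 1 by rwa [← MonoidHom.mem_ker, Abelianization.ker_of],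
      mul_one]
  have hcube : ∀ x : X, ∃ y : X, (y : (AddMonoid.End V)ˣ) ∈ H ∧
      Abelianization.of y = Abelianization.of x ^ 3 := by
    intro x
    have hu2 : u * u ∈ A := A.mul_mem R.u_mem R.u_mem
    let F : ∀ a ∈ A, Abelianization X := fun a ha => Abelianization.of (ψ a ha x)
    have hcomp : ∀ a (ha : a ∈ A) b (hb : b ∈ A) c (hc : c ∈ A), a * b = c →
        Abelianization.of (ψ a ha (ψ b hb x)) = F c hc := by
      intro a ha b hb c hc e
      refine congrArg Abelianization.of (Subtype.ext ?_)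
      subst e
      show a * (b * (x : (AddMonoid.End V)ˣ) * b⁻¹) * a⁻¹ = a * b * x * (a * b)⁻¹
      group
    set t₂ := u * t * u⁻¹ with ht₂
    set t₃ := u * t₂ * u⁻¹ with ht₃
    have hA₂ : t₂ ∈ A := R.rot.t_mem
    have hA₃ : t₃ ∈ A := R.rot.rot.t_mem
    have hu3 : u * u * u = 1 := by rw [← R.u_three]; simp only [pow_succ, pow_zero, one_mul]
    have e12 : t * t₂ = u := R.t_mul_refl
    have etu : t * u = t₂ := by
      conv_lhs => rw [← e12]
      rw [← mul_assoc, R.t_two, one_mul]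
    have e23 : t₂ * t₃ = u := by rw [ht₃]; exact R.rot.t_mul_refl
    have et2u : t₂ * u = t₃ := by
      conv_lhs => rw [← e23]
      rw [← mul_assoc, R.rot.t_two, one_mul]
    have etuu : t * (u * u) = t₃ := by rw [← mul_assoc, etu, et2u]
    have e13 : t * t₃ = u * u := by rw [← etuu, ← mul_assoc, R.t_two, one_mul]
    have eut : u * t = t₃ := by
      calc u * t = t * (t * u) * t := by rw [← mul_assoc, R.t_two, one_mul]
        _ = t * (t₂ * t) := by rw [etu, mul_assoc]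
        _ = t * (u * u) := by rw [show t₂ * t = u * u by rw [ht₂, R.refl_mul_t, R.u_sq]]
        _ = t₃ := etuu
    have eut2 : u * t₂ = t := by
      rw [← etu, ← mul_assoc, eut, ← etuu]
      simp only [mul_assoc]
      rw [show u * (u * u) = 1 by rw [← mul_assoc]; exact hu3] at *
      simp
    have eut3 : u * t₃ = t₂ := by
      rw [← eut, ← mul_assoc, R.u_sq, ← R.tu, etu]
    obtain ⟨y₁, hy₁, f₁⟩ := hlift t R.t_mem h₁ (x * ψ t R.t_mem x) (by
      rw [map_mul, map_mul, hcomp t R.t_mem t R.t_mem 1 (one_mem A) R.t_two, map_mul]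
      rw [show F 1 (one_mem A) = Abelianization.of x from congrArg Abelianization.of (Subtype.ext (by
        show (1 : (AddMonoid.End V)ˣ) * x * 1⁻¹ = x; group))]
      exact mul_comm _ _)
    obtain ⟨y₂, hy₂, f₂⟩ := hlift t₂ hA₂ h₂ (x * ψ t₂ hA₂ x) (by
      rw [map_mul, map_mul, hcomp t₂ hA₂ t₂ hA₂ 1 (one_mem A) R.rot.t_two, map_mul]
      rw [show F 1 (one_mem A) = Abelianization.of x from congrArg Abelianization.of (Subtype.ext (by
        show (1 : (AddMonoid.End V)ˣ) * x * 1⁻¹ = x; group))]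
      exact mul_comm _ _)
    obtain ⟨y₃, hy₃, f₃⟩ := hlift t₃ hA₃ h₃ (x * ψ t₃ hA₃ x) (by
      rw [map_mul, map_mul, hcomp t₃ hA₃ t₃ hA₃ 1 (one_mem A) R.rot.rot.t_two, map_mul]
      rw [show F 1 (one_mem A) = Abelianization.of x from congrArg Abelianization.of (Subtype.ext (by
        show (1 : (AddMonoid.End V)ˣ) * x * 1⁻¹ = x; group))]
      exact mul_comm _ _)
    have hone : Abelianization.of x = F 1 (one_mem A) := congrArg Abelianization.of (Subtype.ext (by
      show (x : (AddMonoid.End V)ˣ) = 1 * x * 1⁻¹; group))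
    obtain ⟨y₀, hy₀, f₀⟩ := hlift u R.u_mem hu (x * ψ u R.u_mem x * ψ (u * u) hu2 x) (by
      simp only [map_mul]
      rw [hcomp u R.u_mem u R.u_mem (u * u) hu2 rfl, hcomp u R.u_mem (u * u) hu2 1 (one_mem A) (by rw [← mul_assoc]; exact hu3), hone]
      simp only [F]
      rw [mul_comm _ (Abelianization.of (ψ 1 (one_mem A) x)), mul_assoc])
    set N := x * ψ u R.u_mem x * ψ (u * u) hu2 x * ψ t R.t_mem x * ψ t₂ hA₂ x * ψ t₃ hA₃ x with hN
    have hN1 : Abelianization.of N = 1 := by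
      have hmem : (N : (AddMonoid.End V)ˣ) ∈ D := hX.mem_of_fixed R hDX hDn N.2
        (hof (N⁻¹ * ψ u R.u_mem N) (by
          simp only [hN, map_mul, map_inv]
          rw [hcomp u R.u_mem u R.u_mem (u * u) hu2 rfl, hcomp u R.u_mem (u * u) hu2 1 (one_mem A) (by rw [← mul_assoc]; exact hu3),
            hcomp u R.u_mem t R.t_mem t₃ hA₃ eut, hcomp u R.u_mem t₂ hA₂ t R.t_mem eut2, hcomp u R.u_mem t₃ hA₃ t₂ hA₂ eut3, hone]
          simp only [F]
          rw [inv_mul_eq_one]; ac_rfl))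
        (hof (N⁻¹ * ψ t R.t_mem N) (by
          simp only [hN, map_mul, map_inv]
          rw [hcomp t R.t_mem u R.u_mem t₂ hA₂ etu, hcomp t R.t_mem (u * u) hu2 t₃ hA₃ etuu,
            hcomp t R.t_mem t R.t_mem 1 (one_mem A) R.t_two, hcomp t R.t_mem t₂ hA₂ u R.u_mem e12,
            hcomp t R.t_mem t₃ hA₃ (u * u) hu2 e13, hone]
          simp only [F]
          rw [inv_mul_eq_one]; ac_rfl))
      obtain ⟨d, hd, he⟩ := hmem
      rw [← MonoidHom.mem_ker, Abelianization.ker_of, ← Subtype.ext (a1 := d) he]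
      exact hd
    refine ⟨y₁ * y₂ * y₃ * y₀, H.mul_mem (H.mul_mem (H.mul_mem hy₁ hy₂) hy₃) hy₀, ?_⟩
    rw [map_mul, map_mul, map_mul, f₁, f₂, f₃, f₀]
    simp only [hN, map_mul] at hN1
    simp only [map_mul, pow_succ, pow_zero, one_mul]
    conv_rhs => rw [← mul_one (Abelianization.of x * Abelianization.of x * Abelianization.of x), ← hN1]
    ac_rfl
  -- the subgroup covers the abelianisation
  have htop : H.subgroupOf X ⊔ commutator X = ⊤ := by
    refine eq_top_iff.mpr fun x _ => ?_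
    obtain ⟨m, hm⟩ := exists_pow_eq_self_of_coprime (x := x) (n := 3)
      (((hX.cop.coprime_dvd_left (orderOf_dvd_natCard x)).coprime_dvd_right
        (by norm_num : 3 ∣ 6)).symm)
    obtain ⟨y, hy, he⟩ := hcube x
    have e : x = y ^ m * ((y ^ m)⁻¹ * x) := by group
    rw [e]
    refine mul_mem (le_sup_left (b := commutator X) (mem_subgroupOf.mpr ?_)) (le_sup_right (a := H.subgroupOf X) ?_)
    · push_cast; exact H.pow_mem hy m
    · rw [← Abelianization.ker_of, MonoidHom.mem_ker, map_mul, map_inv, map_pow, he, ← pow_mul]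
      rw [pow_mul, ← map_pow, ← map_pow, hm, inv_mul_cancel]
  have hnil : Group.IsNilpotent X := hr.isNilpotent
  by_contra hXH
  have hne : H.subgroupOf X ≠ ⊤ := by rwa [Ne, subgroupOf_eq_top]
  obtain ⟨M, hM, hHM⟩ := (eq_top_or_exists_le_coatom (H.subgroupOf X)).resolve_left hne
  have hMn : M.Normal := NormalizerCondition.normal_of_coatom _ normalizerCondition_of_isNilpotent hM
  obtain ⟨g, hg⟩ : ∃ g, g ∉ M := by
    by_contra h
    push_neg at h
    exact hM.1 (eq_top_iff.mpr fun x _ => h x)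
  have hgen : M ⊔ zpowers g = ⊤ := hM.2 _ (lt_of_le_of_ne le_sup_left fun h =>
    hg (h ▸ mem_sup_right (mem_zpowers g)))
  have hzp : ∀ a : X ⧸ M, a ∈ zpowers (QuotientGroup.mk' M g) := fun a => by
    obtain ⟨b, rfl⟩ := QuotientGroup.mk'_surjective M a
    have hb := mem_map_of_mem (QuotientGroup.mk' M) (hgen.symm ▸ mem_top b : b ∈ M ⊔ zpowers g)
    rwa [Subgroup.map_sup, QuotientGroup.map_mk'_self, bot_sup_eq, MonoidHom.map_zpowers] at hb
  have hcle : commutator X ≤ M := by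
    rw [_root_.commutator_def, commutator_le]
    intro a _ b _
    rw [← QuotientGroup.eq_one_iff, ← QuotientGroup.mk'_apply, map_commutatorElement,
      commutatorElement_eq_one_iff_commute]
    obtain ⟨i, hi⟩ := hzp (QuotientGroup.mk' M a)
    obtain ⟨j, hj⟩ := hzp (QuotientGroup.mk' M b)
    rw [← hi, ← hj]
    exact (Commute.refl _).zpow_zpow i j
  exact hM.1 (top_le_iff.mp (htop ▸ sup_le hHM hcle))

/-- The main result of this file. -/
theorem centralised_of_abelian (R : Rep A u t) (hQ : Good A u t Q) (hX : Good A u t X)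
    (hab : ∀ p ∈ Q, ∀ q ∈ Q, Commute p q) (hXQ : ∀ x ∈ X, ∀ q ∈ Q, x * q * x⁻¹ ∈ Q)
    (hcop : (Nat.card Q).Coprime (Nat.card V)) (hXcop : (Nat.card X).Coprime (Nat.card Q))
    {r : ℕ} [Fact r.Prime] (hr : IsPGroup r X) : ∀ x ∈ X, ∀ q ∈ Q, Commute x q := by
  classical
  set B := bracket u Q with hB
  have hBQ : B ≤ Q := bracket_le R hQ
  have hBn : ∀ a ∈ A, ∀ k ∈ B, a * k * a⁻¹ ∈ B := bracket_norm R hQ
  have hBab : ∀ y ∈ B, ∀ z ∈ B, Commute y z := fun y hy z hz => hab y (hBQ hy) z (hBQ hz)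
  -- `X` normalises `B`
  have hXB : X ≤ normalizer (B : Set (AddMonoid.End V)ˣ) := by
    have ht : ∀ s : (AddMonoid.End V)ˣ, Rep A u s → Good A u s Q →
        ∀ x ∈ X, Commute s x → x ∈ normalizer (B : Set (AddMonoid.End V)ˣ) := by
      intro s Rs Qs x hx hc
      refine inv_inv x ▸ inv_mem (mem_normalizer_of_forall fun k hk => ?_)
      rw [inv_inv]
      exact norm_of_t_fixed Rs Qs hab hcop (hXQ x hx) hc hk
    refine le_of_fixed_le R hX hr (fun x hx hc => mem_normalizer_of_forall fun k hk => ?_)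
      (ht t R hQ) (ht _ R.rot (hQ.rot R)) (ht _ R.rot.rot ((hQ.rot R).rot R.rot))
    obtain ⟨y, hy, rfl⟩ := exists_quo R hQ hab hk
    have e : x * quo u y * x⁻¹ = quo u (x * y * x⁻¹) := by
      have e1 : x * u * x⁻¹ = u := by rw [← hc.eq, mul_inv_cancel_right]
      calc x * quo u y * x⁻¹ = (x * y * x⁻¹)⁻¹ * ((x * u * x⁻¹) * (x * y * x⁻¹) * (x * u * x⁻¹)⁻¹) := by
            simp only [quo]; group
        _ = _ := by rw [e1]; rfl
    rw [e]
    exact quo_mem_bracket (hXQ x hx y hy)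
  have hxB : ∀ x ∈ X, ∀ k ∈ B, x * k * x⁻¹ ∈ B := fun x hx k hk => (mem_normalizer_iff.mp (hXB hx) k).mp hk
  -- elements fixed by `u` centralise `B`
  haveI := Fintype.ofFinite B
  let U₁ : AddSubgroup V := AddMonoidHom.ker (∑ z : B, ((z : (AddMonoid.End V)ˣ) : AddMonoid.End V))
  have hsum : ∀ v, (∑ z : B, ((z : (AddMonoid.End V)ˣ) : AddMonoid.End V)) v
      = ∑ z : B, ((z : (AddMonoid.End V)ˣ) : AddMonoid.End V) v := fun v =>
    AddMonoidHom.finsetSum_apply _ _ _
  have hstab : ∀ g : (AddMonoid.End V)ˣ, (∀ z ∈ B, g * z * g⁻¹ ∈ B) → g ∈ stab U₁ := by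
    intro g hg v hv
    have hv' : ∑ z : B, ((z : (AddMonoid.End V)ˣ) : AddMonoid.End V) v = 0 := (hsum v).symm.trans hv
    refine AddMonoidHom.mem_ker.mpr ((hsum _).trans ?_)
    let e : B → B := fun z => ⟨g * z * g⁻¹, hg z z.2⟩
    have he : Function.Bijective e := Finite.injective_iff_bijective.mp fun a b h =>
      Subtype.ext (mul_left_cancel (mul_right_cancel (congrArg Subtype.val h)))
    rw [← Fintype.sum_bijective e he (fun z : B =>
      (g : AddMonoid.End V) (((z : (AddMonoid.End V)ˣ) : AddMonoid.End V) v)) _ fun z => by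
        simp only [e, ← mul_apply', inv_mul_cancel_right], ← map_sum, hv', map_zero]
  have hA₁ : A ≤ stab U₁ := fun a ha => hstab a (hBn a ha)
  have hB₁ : B ≤ stab U₁ := fun k hk => hstab k fun z hz => B.mul_mem (B.mul_mem hk hz) (B.inv_mem hk)
  have hX₁ : X ≤ stab U₁ := fun x hx => hstab x (hxB x hx)
  have hBn' : (Nat.card B).Coprime (Nat.card V) := hcop.coprime_dvd_left (card_dvd_of_le hBQ)
  have GB : Good A u t B := ⟨fun a ha => mem_normalizer_of_forall (hBn a ha),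
    fun p hp => hQ.fixed p (hBQ hp), hQ.cop.coprime_dvd_left (card_dvd_of_le hBQ)⟩
  have hC : Central (resSub U₁ A) (res U₁ ⟨u, hA₁ R.u_mem⟩) (res U₁ ⟨t, hA₁ R.t_mem⟩)
      (resSub U₁ B) (resSub U₁ B) :=
    { rep := R.restrict hA₁
      good := GB.restrict R hA₁ hB₁
      le := le_rfl
      norm := fun a ha z hz => (GB.restrict R hA₁ hB₁).conj_mem ha hz
      central := fun z hz w hw => by
        obtain ⟨z', hz', rfl⟩ := exists_of_mem_resSub hz
        obtain ⟨w', hw', rfl⟩ := exists_of_mem_resSub hw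
        exact (show Commute z' w' from Subtype.ext (hBab _ hz' _ hw').eq).map _
      zero := fun v hv => Subtype.ext (by
        have h1 : ∑ z : B, ((z : (AddMonoid.End V)ˣ) : AddMonoid.End V) (v : V) = 0 :=
          (hsum _).symm.trans v.2
        rw [Finset.sum_congr rfl fun (z : B) _ => show ((z : (AddMonoid.End V)ˣ) : AddMonoid.End V) (v : V) = v
          from congrArg Subtype.val (hv _ (mem_resSub (g := ⟨(z : (AddMonoid.End V)ˣ), hB₁ z.2⟩) z.2)),
          Finset.sum_const, Finset.card_univ, Fintype.card_eq_nat_card] at h1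
        exact nsmul_cancel hBn' (by rw [h1]; exact (smul_zero _).symm))
      fpf := fun z hz hc => by
        obtain ⟨⟨y, hys⟩, hy, rfl⟩ := exists_of_mem_resSub hz
        obtain ⟨n, hn, hcn⟩ := GB.exists_fixed R (N := triv U₁ B) (x := y)
          (fun g hg => hg.1) R.u_mem
          (fun c hc => norm_triv hA₁ GB (zpowers_le.mpr R.u_mem hc))
          ⟨B.mul_mem (B.inv_mem hy) (hBn u R.u_mem y hy), res_conj_eq hc⟩
        have h1 := bracket_fpf R hQ hab (B.mul_mem hy hn.1) hcn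
        refine (res_eq_one_iff U₁ _).mpr fun v hv => ?_
        show (y : AddMonoid.End V) v = v
        rw [show y = n⁻¹ from mul_eq_one_iff_eq_inv.mp h1]
        exact fix_inv (hn.2 v hv) }
  have hfixu : ∀ x ∈ X, Commute u x → ∀ k ∈ B, Commute x k := by
    intro x hx hxu k hk
    have hxt := hX.inverted R hx hxu
    have hc1 : (⁅x, k⁆ : (AddMonoid.End V)ˣ) ∈ B := by
      rw [commutatorElement_def]; exact B.mul_mem (hxB x hx k hk) (B.inv_mem hk)
    have hres : Commute (res U₁ ⟨x, hX₁ hx⟩) (res U₁ ⟨k, hB₁ hk⟩) := by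
      refine hC.centralised ((show Commute (⟨u, hA₁ R.u_mem⟩ : stab U₁) ⟨x, hX₁ hx⟩ from
        Subtype.ext hxu.eq).map _) ?_ ?_ ?_ ?_ (mem_resSub hk)
      · rw [← map_inv, ← map_inv, ← map_mul, ← map_mul]
        exact congrArg (res U₁) (Subtype.ext hxt)
      · exact ((hX.cop.coprime_dvd_left (Subgroup.orderOf_dvd_natCard X hx)).coprime_dvd_left
          ((orderOf_map_dvd _ _).trans (dvd_of_eq (Subgroup.orderOf_mk ..))))
      · intro z hz
        obtain ⟨z', hz', rfl⟩ := exists_of_mem_resSub hz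
        rw [← map_inv, ← map_mul, ← map_mul]
        exact mem_resSub (hxB x hx _ hz')
      · intro z hz
        obtain ⟨z', hz', rfl⟩ := exists_of_mem_resSub hz
        rw [← map_inv, ← map_mul, ← map_mul]
        exact mem_resSub (inv_conj_mem (hxB x hx) hz')
    refine commutatorElement_eq_one_iff_commute.mp (eq_one_of_forall fun v => ?_)
    set c : (AddMonoid.End V)ˣ := ⁅x, k⁆ with hcdef
    -- `c` is trivial on both summands
    have h1 : ∀ w ∈ U₁, (c : AddMonoid.End V) w = w := fun w hw => by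
      have e : res U₁ ⁅(⟨x, hX₁ hx⟩ : stab U₁), ⟨k, hB₁ hk⟩⁆ = 1 := by
        rw [map_commutatorElement]; exact commutatorElement_eq_one_iff_commute.mpr hres
      exact (res_eq_one_iff _ _).mp e w hw
    have h0 : (c : AddMonoid.End V) (∑ z : B, ((z : (AddMonoid.End V)ˣ) : AddMonoid.End V) v)
        = ∑ z : B, ((z : (AddMonoid.End V)ˣ) : AddMonoid.End V) v := by
      rw [map_sum]
      exact Fintype.sum_equiv (Equiv.mulLeft (⟨c, hc1⟩ : B)) _ _ fun z => by
        rw [← mul_apply']; rfl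
    set s := ∑ z : B, ((z : (AddMonoid.End V)ˣ) : AddMonoid.End V) v with hs
    have hmem : Nat.card B • v - s ∈ U₁ := by
      refine AddMonoidHom.mem_ker.mpr ((hsum _).trans ?_)
      simp only [map_sub, map_nsmul, Finset.sum_sub_distrib, ← Finset.smul_sum, ← hs]
      rw [Finset.sum_congr rfl fun (z : B) _ => show ((z : (AddMonoid.End V)ˣ) : AddMonoid.End V) s = s by
        rw [hs, map_sum]
        exact Fintype.sum_equiv (Equiv.mulLeft z) _ _ fun w => by rw [← mul_apply']; rfl,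
        Finset.sum_const, Finset.card_univ, Fintype.card_eq_nat_card, sub_self]
    have h2 := h1 _ hmem
    rw [map_sub, map_nsmul, h0, sub_left_inj] at h2
    exact nsmul_cancel hBn' h2
  -- `X` centralises `B`
  have hXBc : ∀ x ∈ X, ∀ k ∈ B, Commute x k := by
    haveI : IsMulCommutative B := ⟨⟨fun a b => Subtype.ext (hBab a a.2 b b.2).eq⟩⟩
    open scoped IsMulCommutative in
    have key : ∀ x : X, ∀ v : B, normalizerMonoidHom B ⟨x, hXB x.2⟩ v = v := by
      intro x v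
      set φ := normalizerMonoidHom B
      set E := (X.subgroupOf (normalizer (B : Set (AddMonoid.End V)ˣ))).map φ with hE
      have huN : u ∈ normalizer (B : Set (AddMonoid.End V)ˣ) := GB.norm R.u_mem
      have hEdvd : Nat.card E ∣ Nat.card X :=
        (Subgroup.card_map_dvd _ _).trans (Coprime.card_subgroupOf hXB).dvd
      have h := fixed_pow_card (MonoidHom.id (MulAut B)) E (φ ⟨u, huN⟩) (r := 3) (by norm_num)
        (by rw [← map_pow]; exact (congrArg φ (Subtype.ext R.u_three)).trans (map_one _))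
        (by
          rintro _ ⟨b, hb, rfl⟩
          rw [← map_inv, ← map_mul, ← map_mul]
          exact mem_map_of_mem _ (mem_subgroupOf.mpr (hX.conj_mem R.u_mem (mem_subgroupOf.mp hb))))
        (by
          intro i hi hi3 b0 hb0 hc
          obtain ⟨⟨b, hbN⟩, hb, rfl⟩ := hb0
          have hb : b ∈ X := hb
          have hcu : Commute (φ ⟨u, huN⟩) (φ ⟨b, hbN⟩) := by
            obtain ⟨m, hm⟩ := exists_pow_eq_self_of_coprime (x := φ ⟨u, huN⟩) (n := i)
              (((Nat.prime_three.coprime_iff_not_dvd.mpr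
                (Nat.not_dvd_of_pos_of_lt hi hi3)).symm).coprime_dvd_right
                (orderOf_dvd_of_pow_eq_one
                  (by rw [← map_pow]; exact (congrArg φ (Subtype.ext R.u_three)).trans (map_one _))))
            exact hm ▸ hc.pow_left m
          let N := X ⊓ centralizer (B : Set (AddMonoid.End V)ˣ)
          have hNn : ∀ c ∈ zpowers u, c ∈ normalizer (N : Set (AddMonoid.End V)ˣ) := fun c hc =>
            Coprime.le_normalizer_inf hX.norm (Coprime.le_normalizer_centralizer GB.norm)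
              (zpowers_le.mpr R.u_mem hc)
          have hq : quo u b ∈ N := by
            refine ⟨X.mul_mem (X.inv_mem hb) (hX.conj_mem R.u_mem hb), fun z hz => ?_⟩
            have e1 : φ (⟨b, hbN⟩⁻¹ * (⟨u, huN⟩ * ⟨b, hbN⟩ * (⟨u, huN⟩ : normalizer (B : Set _))⁻¹)) = 1 := by
              rw [map_mul, map_mul, map_mul, map_inv, map_inv, hcu.eq]; group
            have e2 := DFunLike.congr_fun e1 ⟨z, hz⟩
            have e3 : quo u b * z * (quo u b)⁻¹ = z := congrArg Subtype.val e2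
            exact (mul_inv_eq_iff_eq_mul.mp e3).symm
          obtain ⟨n, hn, hcn⟩ := hX.exists_fixed R (N := N) inf_le_left R.u_mem hNn hq
          refine MulEquiv.ext fun z => Subtype.ext ?_
          show b * (z : (AddMonoid.End V)ˣ) * b⁻¹ = z
          have hbn := hfixu _ (X.mul_mem hb hn.1) hcn z z.2
          have hnz : Commute n z := (mem_centralizer_iff.mp hn.2 z z.2).symm
          have hbz : Commute b z := by
            have := hbn.mul_left hnz.inv_left
            rwa [mul_inv_cancel_right] at this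
          rw [hbz.eq, mul_inv_cancel_right])
        (by
          intro w hw
          have hw' : u * (w : (AddMonoid.End V)ˣ) * u⁻¹ = w := congrArg Subtype.val hw
          exact Subtype.ext (bracket_fpf R hQ hab w.2 (mul_inv_eq_iff_eq_mul.mp hw')))
        (mem_map_of_mem φ (x := ⟨x, hXB x.2⟩) (mem_subgroupOf.mpr x.2)) v
      have hvcop : (Nat.card B).Coprime (Nat.card E) :=
        ((hXcop.symm.coprime_dvd_left (card_dvd_of_le hBQ))).coprime_dvd_right hEdvd
      rw [MonoidHom.id_apply, map_pow] at h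
      exact (powCoprime hvcop).injective h
    intro x hx k hk
    exact mul_inv_eq_iff_eq_mul.mp (congrArg Subtype.val (key ⟨x, hx⟩ ⟨k, hk⟩))
  -- `X` acts trivially modulo `B`
  intro x hx q hq
  have hquot : x * q * x⁻¹ * q⁻¹ ∈ B := by
    set C := bracket u X with hCdef
    have hCX : C ≤ X := bracket_le R hX
    let T : Subgroup (AddMonoid.End V)ˣ :=
      { carrier := {g | g ∈ X ∧ ∀ p ∈ Q, g * p * g⁻¹ * p⁻¹ ∈ B}
        one_mem' := ⟨one_mem X, fun p _ => by simp⟩
        mul_mem' := fun {a b} ha hb => ⟨X.mul_mem ha.1 hb.1, fun p hp => by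
          have e : a * b * p * (a * b)⁻¹ * p⁻¹
              = (a * (b * p * b⁻¹) * a⁻¹ * (b * p * b⁻¹)⁻¹) * (b * p * b⁻¹ * p⁻¹) := by group
          rw [e]; exact B.mul_mem (ha.2 _ (hXQ b hb.1 p hp)) (hb.2 p hp)⟩
        inv_mem' := fun {a} ha => ⟨X.inv_mem ha.1, fun p hp => by
          have hp' : a⁻¹ * p * a⁻¹⁻¹ ∈ Q := hXQ _ (X.inv_mem ha.1) p hp
          have h := B.inv_mem (ha.2 _ hp')
          convert h using 1
          group⟩ }
    have hCT : C ≤ T := (closure_le _).mpr (by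
      rintro _ ⟨y, hy, rfl⟩
      refine ⟨X.mul_mem (X.inv_mem hy) (hX.conj_mem R.u_mem hy), fun p hp => ?_⟩
      have hyu : ∀ z ∈ Q, u * z * u⁻¹ * z⁻¹ ∈ B := fun z hz => by
        have e : u * z * u⁻¹ * z⁻¹ = quo u z := by
          calc u * z * u⁻¹ * z⁻¹ = z⁻¹ * (u * z * u⁻¹) :=
            (hab _ (hQ.conj_mem R.u_mem hz) _ (Q.inv_mem hz)).eq
            _ = quo u z := rfl
        rw [e]; exact quo_mem_bracket hz
      have hz1 : u⁻¹ * p * u⁻¹⁻¹ ∈ Q := hQ.conj_mem (A.inv_mem R.u_mem) hp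
      set p₁ := u⁻¹ * p * u⁻¹⁻¹
      set p₂ := y * p₁ * y⁻¹ with hp₂
      have hp₂Q : p₂ ∈ Q := hXQ y hy _ hz1
      have e : quo u y * p * (quo u y)⁻¹ * p⁻¹
          = (y⁻¹ * (u * p₂ * u⁻¹ * p₂⁻¹) * y⁻¹⁻¹) * (u * p₁ * u⁻¹ * p₁⁻¹)⁻¹ := by
        simp only [quo, hp₂, p₁]; group
      rw [e]
      exact B.mul_mem (hxB _ (X.inv_mem hy) _ (hyu _ hp₂Q)) (B.inv_mem (hyu _ hz1)))
    have hCn : ∀ c ∈ zpowers u, c ∈ normalizer (C : Set (AddMonoid.End V)ˣ) := fun c hc =>
      mem_normalizer_of_forall (bracket_norm R hX c (zpowers_le.mpr R.u_mem hc))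
    obtain ⟨n, hn, hcn⟩ := hX.exists_fixed R hCX (x := x) R.u_mem hCn (quo_mem_bracket hx)
    have hxn : x * n ∈ T := by
      refine ⟨X.mul_mem hx (hCX hn), fun p hp => ?_⟩
      obtain ⟨y, hy, e, he, hue, rfl⟩ := bracket_decompose R hQ hab hp
      set g := x * n with hg
      have hgX : g ∈ X := X.mul_mem hx (hCX hn)
      have hge : Commute g e := by
        have h1 := hX.inverted R hgX hcn
        set e' := g * e * g⁻¹
        have he'u : Commute u e' := (hcn.mul_right hue).mul_right hcn.inv_right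
        have h2 := hQ.inverted R (hXQ g hgX e he) he'u
        have h3 : t * e' * t⁻¹ = g⁻¹ * e⁻¹ * g := by
          calc t * e' * t⁻¹ = (t * g * t⁻¹) * (t * e * t⁻¹) * (t * g * t⁻¹)⁻¹ := by simp only [e']; group
            _ = g⁻¹ * e⁻¹ * g := by rw [h1, hQ.inverted R he hue]; group
        refine commute_of_sq (hX.odd.of_dvd_nat (Subgroup.orderOf_dvd_natCard X hgX)) ?_
        have h4 : g * e⁻¹ * g⁻¹ = g⁻¹ * e⁻¹ * g := by rw [← h3, h2]; group
        have h5 : Commute (g * g) e⁻¹ := by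
          calc g * g * e⁻¹ = g * (g * e⁻¹ * g⁻¹) * g := by group
            _ = e⁻¹ * (g * g) := by rw [h4]; group
        exact inv_inv e ▸ h5.inv_right
      have e1 : g * (y * e) * g⁻¹ * (y * e)⁻¹ = g * y * g⁻¹ * y⁻¹ := by
        calc g * (y * e) * g⁻¹ * (y * e)⁻¹ = g * y * (g⁻¹ * (g * e)) * g⁻¹ * e⁻¹ * y⁻¹ := by group
          _ = g * y * g⁻¹ * y⁻¹ := by rw [hge.eq]; group
      rw [e1]
      exact B.mul_mem (hxB g hgX y hy) (B.inv_mem hy)
    have hxT : x ∈ T := by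
      have := T.mul_mem hxn (T.inv_mem (hCT hn))
      rwa [mul_inv_cancel_right] at this
    exact hxT.2 q hq
  set k := x * q * x⁻¹ * q⁻¹ with hk
  have hkq : Commute x k := hXBc x hx k hquot
  have hconj : ∀ n : ℕ, x ^ n * q * (x ^ n)⁻¹ = k ^ n * q := by
    intro n
    induction n with
    | zero => simp
    | succ n ih =>
      calc x ^ (n + 1) * q * (x ^ (n + 1))⁻¹ = x * (x ^ n * q * (x ^ n)⁻¹) * x⁻¹ := by
            rw [pow_succ']; group
        _ = (x * k ^ n * x⁻¹) * (x * q * x⁻¹) := by rw [ih]; group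
        _ = (x * k ^ n * x⁻¹) * (k * q) := by rw [show x * q * x⁻¹ = k * q by simp only [hk]; group]
        _ = k ^ n * (k * q) := by rw [(hkq.pow_right n).eq, mul_inv_cancel_right]
        _ = k ^ (n + 1) * q := by rw [← mul_assoc, ← pow_succ]
  have h1 := hconj (orderOf x)
  rw [pow_orderOf_eq_one] at h1
  have h2 : k ^ orderOf x = 1 := mul_right_cancel (b := q) (by rw [one_mul, ← h1]; group)
  have hk1 : k = 1 := orderOf_eq_one_iff.mp (Nat.eq_one_of_dvd_coprimes
    (hXcop.coprime_dvd_left (Subgroup.orderOf_dvd_natCard X hx))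
    (orderOf_dvd_of_pow_eq_one h2) (Subgroup.orderOf_dvd_natCard Q (hBQ hquot)))
  rw [hk, mul_inv_eq_one, mul_inv_eq_iff_eq_mul] at hk1
  exact hk1

end Cfsg.Agent.S3Fpf
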