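import Cfsg.Agent.S3Fpf.Ring
import Cfsg.Agent.Coprime.Basic

/-!
Fixed-point-free actions of the symmetric group of degree three on finite modules: basic facts.

Operators are units of `AddMonoid.End V`.
-/

set_option autoImplicit false

open Subgroup
open scoped commutatorElement

namespace Cfsg.Agent.S3Fpf

universe v

variable {V : Type v} [AddCommGroup V] [Finite V]

instance instFiniteEnd : Finite (AddMonoid.End V) :=
  Finite.of_injective (fun f => (f : V → V)) fun _ _ h => DFunLike.coe_injective h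

instance instFiniteEndUnits : Finite (AddMonoid.End V)ˣ :=
  Finite.of_injective Units.val fun _ _ h => Units.ext h

/-- A faithful fixed-point-free action of a quotient of the symmetric group of degree three. -/
structure Rep (A : Subgroup (AddMonoid.End V)ˣ) (u t : (AddMonoid.End V)ˣ) : Prop where
  u_mem : u ∈ A
  t_mem : t ∈ A
  card_dvd : Nat.card A ∣ 6
  solv : Group.IsSolvable A
  gen : A ≤ closure {u, t}
  u_three : u ^ 3 = 1
  t_two : t * t = 1
  tut : t * u * t⁻¹ = u⁻¹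
  fixed : ∀ v : V, (u : AddMonoid.End V) v = v → (t : AddMonoid.End V) v = v → v = 0
  cop : (Nat.card V).Coprime 6

/-- An invariant subgroup of order prime to six without common fixed point. -/
structure Good (A : Subgroup (AddMonoid.End V)ˣ) (u t : (AddMonoid.End V)ˣ)
    (P : Subgroup (AddMonoid.End V)ˣ) : Prop where
  norm : A ≤ normalizer (P : Set (AddMonoid.End V)ˣ)
  fixed : ∀ p ∈ P, Commute u p → Commute t p → p = 1
  cop : (Nat.card P).Coprime 6

theorem mul_apply' (f g : (AddMonoid.End V)ˣ) (v : V) :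
    ((f * g : (AddMonoid.End V)ˣ) : AddMonoid.End V) v
      = (f : AddMonoid.End V) ((g : AddMonoid.End V) v) := rfl

theorem inv_apply_self (f : (AddMonoid.End V)ˣ) (v : V) :
    ((f⁻¹ : (AddMonoid.End V)ˣ) : AddMonoid.End V) ((f : AddMonoid.End V) v) = v := by
  rw [← mul_apply', inv_mul_cancel]; rfl

theorem apply_inv_self (f : (AddMonoid.End V)ˣ) (v : V) :
    (f : AddMonoid.End V) (((f⁻¹ : (AddMonoid.End V)ˣ) : AddMonoid.End V) v) = v := by
  rw [← mul_apply', mul_inv_cancel]; rfl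

theorem fix_inv {f : (AddMonoid.End V)ˣ} {v : V} (h : (f : AddMonoid.End V) v = v) :
    ((f⁻¹ : (AddMonoid.End V)ˣ) : AddMonoid.End V) v = v := by
  conv_lhs => rw [← h, inv_apply_self]

theorem fix_pow {f : (AddMonoid.End V)ˣ} {v : V} (h : (f : AddMonoid.End V) v = v) (n : ℕ) :
    ((f ^ n : (AddMonoid.End V)ˣ) : AddMonoid.End V) v = v := by
  induction n with
  | zero => rw [pow_zero]; rfl
  | succ n ih => rw [pow_succ, mul_apply', h, ih]

theorem eq_one_of_forall {f : (AddMonoid.End V)ˣ}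
    (h : ∀ v, (f : AddMonoid.End V) v = v) : f = 1 :=
  Units.ext (AddMonoidHom.ext h)

theorem nsmul_cancel {n : ℕ} (hn : n.Coprime (Nat.card V)) {v w : V} (h : n • v = n • w) : v = w := by
  have h1 : addOrderOf (v - w) ∣ n :=
    addOrderOf_dvd_of_nsmul_eq_zero (by rw [smul_sub, h, sub_self])
  have h2 := Nat.eq_one_of_dvd_coprimes hn h1 (addOrderOf_dvd_natCard _)
  exact sub_eq_zero.mp (AddMonoid.addOrderOf_eq_one_iff.mp h2)

/-- A coprime operator with `(g - 1)² v = 0` fixes `v`. -/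
theorem fixed_of_sq {g : (AddMonoid.End V)ˣ} (hg : (orderOf g).Coprime (Nat.card V)) {v : V}
    (h : (g : AddMonoid.End V) ((g : AddMonoid.End V) v - v) = (g : AddMonoid.End V) v - v) :
    (g : AddMonoid.End V) v = v := by
  set e := (g : AddMonoid.End V) v - v
  have key : ∀ n : ℕ, ((g ^ n : (AddMonoid.End V)ˣ) : AddMonoid.End V) v = v + n • e := by
    intro n
    induction n with
    | zero => rw [pow_zero, zero_smul, add_zero]; rfl
    | succ n ih =>
      rw [pow_succ', mul_apply', ih, map_add, map_nsmul, h, succ_nsmul]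
      simp only [e]
      abel
  have h1 := key (orderOf g)
  rw [pow_orderOf_eq_one] at h1
  have h2 : orderOf g • e = orderOf g • (0 : V) := by
    rw [smul_zero]
    have h3 : v + orderOf g • e = v + 0 := by rw [add_zero]; exact h1.symm
    exact add_left_cancel h3
  exact sub_eq_zero.mp (nsmul_cancel hg h2)

theorem orderOf_coprime {P : Subgroup (AddMonoid.End V)ˣ} {n : ℕ} (h : (Nat.card P).Coprime n)
    {p : (AddMonoid.End V)ˣ} (hp : p ∈ P) : (orderOf p).Coprime n :=
  h.coprime_dvd_left (Subgroup.orderOf_dvd_natCard P hp)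

theorem commute_of_sq {G : Type*} [Group G] {g x : G} (hg : Odd (orderOf g))
    (h : Commute (g * g) x) : Commute g x := by
  obtain ⟨m, hm⟩ := exists_pow_eq_self_of_coprime (x := g) (n := 2)
    (Nat.coprime_two_left.mpr hg)
  rw [pow_two] at hm
  exact hm ▸ h.pow_left m

theorem eq_one_of_sq {G : Type*} [Group G] {g : G} (hg : Odd (orderOf g)) (h : g * g = 1) :
    g = 1 :=
  orderOf_eq_one_iff.mp (Nat.eq_one_of_dvd_coprimes (Nat.coprime_two_left.mpr hg)
    (orderOf_dvd_of_pow_eq_one (by rw [pow_two, h])) dvd_rfl)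

/-- In a group of odd order only the identity is conjugate to its inverse. -/
theorem eq_one_of_real {G : Type*} [Group G] [Finite G] {P : Subgroup G} (hP : Odd (Nat.card P))
    {g c : G} (hg : g ∈ P) (hc : c ∈ P) (h : g * c * g⁻¹ = c⁻¹) : c = 1 := by
  have ho : ∀ x ∈ P, Odd (orderOf x) := fun x hx =>
    hP.of_dvd_nat (Subgroup.orderOf_dvd_natCard P hx)
  have h2 : Commute (g * g) c := by
    have h' := congrArg (·⁻¹) h
    simp only [mul_inv_rev, inv_inv] at h'
    calc g * g * c = g * (g * c * g⁻¹) * g := by group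
      _ = g * c⁻¹ * g := by rw [h]
      _ = (g * (c⁻¹ * g⁻¹)) * (g * g) := by group
      _ = c * (g * g) := by rw [h']
  have h3 := commute_of_sq (ho g hg) h2
  rw [h3.eq, mul_inv_cancel_right, eq_inv_iff_mul_eq_one] at h
  exact eq_one_of_sq (ho c hc) h

section Rep

variable {A P : Subgroup (AddMonoid.End V)ˣ} {u t : (AddMonoid.End V)ˣ}

theorem Rep.t_inv (R : Rep A u t) : t⁻¹ = t := inv_eq_of_mul_eq_one_left R.t_two

theorem Rep.u_sq (R : Rep A u t) : u * u = u⁻¹ :=
  eq_inv_of_mul_eq_one_left (by rw [← pow_two, ← pow_succ, R.u_three])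

theorem Rep.tu (R : Rep A u t) : t * u = u⁻¹ * t := mul_inv_eq_iff_eq_mul.mp R.tut

theorem Rep.t_mul_refl (R : Rep A u t) : t * (u * t * u⁻¹) = u := by
  rw [← mul_assoc, ← mul_assoc, R.tu, mul_assoc u⁻¹, R.t_two, mul_one, ← R.u_sq]
  calc u * u * (u * u) = u ^ 3 * u := by simp only [pow_succ, pow_zero, one_mul, mul_assoc]
    _ = u := by rw [R.u_three, one_mul]

theorem Rep.refl_mul_t (R : Rep A u t) : u * t * u⁻¹ * t = u⁻¹ := by
  calc u * t * u⁻¹ * t = u * (t * u⁻¹ * t⁻¹) := by rw [R.t_inv]; simp only [mul_assoc]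
    _ = u * (t * u * t⁻¹)⁻¹ := by group
    _ = u⁻¹ := by rw [R.tut, inv_inv, R.u_sq]

theorem Rep.neg_of_fixed (R : Rep A u t) {v : V} (hv : (u : AddMonoid.End V) v = v) :
    (t : AddMonoid.End V) v = -v := by
  have h1 : (u : AddMonoid.End V) ((t : AddMonoid.End V) v) = (t : AddMonoid.End V) v := by
    rw [← mul_apply', show u * t = t * u⁻¹ by
      calc u * t = (u⁻¹)⁻¹ * t := by rw [inv_inv]
        _ = (t * u * t⁻¹)⁻¹ * t := by rw [R.tut]
        _ = t * u⁻¹ := by group, mul_apply', fix_inv hv]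
  have h2 := R.fixed (v + (t : AddMonoid.End V) v) (by rw [map_add, hv, h1])
    (by rw [map_add, ← mul_apply', R.t_two]; exact add_comm _ _)
  exact eq_neg_of_add_eq_zero_right h2

theorem Rep.mem_of_gen (R : Rep A u t) {S : Subgroup (AddMonoid.End V)ˣ} (hu : u ∈ S) (ht : t ∈ S) :
    A ≤ S :=
  R.gen.trans ((closure_le _).mpr (Set.insert_subset hu (Set.singleton_subset_iff.mpr ht)))

/-- The reflection conjugate to `t` by `u` may replace `t`. -/
theorem Rep.rot (R : Rep A u t) : Rep A u (u * t * u⁻¹) where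
  u_mem := R.u_mem
  t_mem := mul_mem (mul_mem R.u_mem R.t_mem) (inv_mem R.u_mem)
  card_dvd := R.card_dvd
  solv := R.solv
  gen := R.mem_of_gen (subset_closure (Set.mem_insert _ _)) (by
    have h1 : u ∈ closure {u, u * t * u⁻¹} := subset_closure (Set.mem_insert _ _)
    have h2 : u * t * u⁻¹ ∈ closure {u, u * t * u⁻¹} :=
      subset_closure (Set.mem_insert_of_mem _ rfl)
    have := mul_mem (mul_mem (inv_mem h1) h2) h1
    simpa [mul_assoc] using this)
  u_three := R.u_three
  t_two := by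
    calc u * t * u⁻¹ * (u * t * u⁻¹) = u * (t * t) * u⁻¹ := by group
      _ = 1 := by rw [R.t_two, mul_one, mul_inv_cancel]
  tut := by
    calc u * t * u⁻¹ * u * (u * t * u⁻¹)⁻¹ = u * (t * u * t⁻¹) * u⁻¹ := by group
      _ = u⁻¹ := by rw [R.tut]; group
  fixed := fun v hu ht => R.fixed v hu (by
    have h := congrArg ((u⁻¹ : (AddMonoid.End V)ˣ) : AddMonoid.End V) ht
    rw [fix_inv hu, mul_apply', mul_apply', fix_inv hu, inv_apply_self] at h
    exact h)
  cop := R.cop

theorem Good.coprime_A (R : Rep A u t) (hP : Good A u t P) {N : Subgroup (AddMonoid.End V)ˣ}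
    (hN : N ≤ P) : (Nat.card A).Coprime (Nat.card N) :=
  ((hP.cop.coprime_dvd_left (card_dvd_of_le hN)).coprime_dvd_right R.card_dvd).symm

theorem Good.rot (R : Rep A u t) (hP : Good A u t P) : Good A u (u * t * u⁻¹) P where
  norm := hP.norm
  fixed := fun p hp hu ht => hP.fixed p hp hu (by
    have h := (hu.inv_left.mul_left ht).mul_left hu
    simpa [mul_assoc] using h)
  cop := hP.cop

theorem Good.conj_mem (hP : Good A u t P) {a p : (AddMonoid.End V)ˣ} (ha : a ∈ A) (hp : p ∈ P) :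
    a * p * a⁻¹ ∈ P := (mem_normalizer_iff.mp (hP.norm ha) p).mp hp

theorem Good.odd (hP : Good A u t P) : Odd (Nat.card P) :=
  Nat.coprime_two_right.mp (hP.cop.coprime_dvd_right (by norm_num))

/-- Common fixed points lift. -/
theorem Good.mem_of_fixed (R : Rep A u t) (hP : Good A u t P) {N : Subgroup (AddMonoid.End V)ˣ}
    (hNP : N ≤ P) (hN : A ≤ normalizer (N : Set (AddMonoid.End V)ˣ)) {x : (AddMonoid.End V)ˣ}
    (hx : x ∈ P) (hu : x⁻¹ * (u * x * u⁻¹) ∈ N) (ht : x⁻¹ * (t * x * t⁻¹) ∈ N) : x ∈ N := by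
  have hall : ∀ a ∈ A, x⁻¹ * (a * x * a⁻¹) ∈ N := by
    intro a ha
    suffices h : a ∈ A ∧ x⁻¹ * (a * x * a⁻¹) ∈ N from h.2
    induction R.gen ha using closure_induction with
    | mem a ha' =>
      rcases ha' with rfl | rfl
      · exact ⟨R.u_mem, hu⟩
      · exact ⟨R.t_mem, ht⟩
    | one => exact ⟨one_mem _, by simp⟩
    | mul a b ha' hb' iha ihb =>
      have hA : ∀ c, c ∈ closure ({u, t} : Set (AddMonoid.End V)ˣ) → c ∈ A := fun c hc =>
        (closure_le _).mpr (Set.insert_subset R.u_mem (Set.singleton_subset_iff.mpr R.t_mem)) hc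
      obtain ⟨ha, ia⟩ := iha (hA a ha')
      obtain ⟨hb, ib⟩ := ihb (hA b hb')
      refine ⟨mul_mem ha hb, ?_⟩
      have e : x⁻¹ * (a * b * x * (a * b)⁻¹)
          = (x⁻¹ * (a * x * a⁻¹)) * (a * (x⁻¹ * (b * x * b⁻¹)) * a⁻¹) := by group
      rw [e]
      exact N.mul_mem ia ((mem_normalizer_iff.mp (hN ha) _).mp ib)
    | inv a ha' iha =>
      have hA : a ∈ A :=
        (closure_le _).mpr (Set.insert_subset R.u_mem (Set.singleton_subset_iff.mpr R.t_mem)) ha'
      obtain ⟨ha, ia⟩ := iha hA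
      refine ⟨inv_mem ha, ?_⟩
      have e : x⁻¹ * (a⁻¹ * x * a⁻¹⁻¹) = a⁻¹ * (x⁻¹ * (a * x * a⁻¹))⁻¹ * a⁻¹⁻¹ := by group
      rw [e]
      exact (mem_normalizer_iff.mp (hN (inv_mem ha)) _).mp (N.inv_mem ia)
  obtain ⟨n, hn, hc⟩ :=
    Coprime.exists_fixed_mem_leftCoset hN (hP.coprime_A R hNP) (Or.inl R.solv) hall
  have h1 := hP.fixed (x * n) (P.mul_mem hx (hNP hn))
    (mem_centralizer_iff.mp hc u R.u_mem) (mem_centralizer_iff.mp hc t R.t_mem)
  rw [mul_eq_one_iff_eq_inv.mp h1]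
  exact N.inv_mem hn

/-- Fixed points of one element lift. -/
theorem Good.exists_fixed (R : Rep A u t) (hP : Good A u t P) {N : Subgroup (AddMonoid.End V)ˣ}
    (hNP : N ≤ P) {a x : (AddMonoid.End V)ˣ} (ha : a ∈ A)
    (hN : ∀ c ∈ zpowers a, c ∈ normalizer (N : Set (AddMonoid.End V)ˣ))
    (hax : x⁻¹ * (a * x * a⁻¹) ∈ N) : ∃ n ∈ N, Commute a (x * n) := by
  have hsub : zpowers a ≤ A := zpowers_le.mpr ha
  have hall : ∀ c ∈ zpowers a, x⁻¹ * (c * x * c⁻¹) ∈ N := by
    intro c hc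
    suffices h : c ∈ zpowers a ∧ x⁻¹ * (c * x * c⁻¹) ∈ N from h.2
    rw [zpowers_eq_closure] at hc
    induction hc using closure_induction with
    | mem c hc => rw [Set.mem_singleton_iff] at hc; subst hc; exact ⟨mem_zpowers c, hax⟩
    | one => exact ⟨one_mem _, by simp⟩
    | mul b d _ _ ib id =>
      refine ⟨mul_mem ib.1 id.1, ?_⟩
      have e : x⁻¹ * (b * d * x * (b * d)⁻¹)
          = (x⁻¹ * (b * x * b⁻¹)) * (b * (x⁻¹ * (d * x * d⁻¹)) * b⁻¹) := by group
      rw [e]
      exact N.mul_mem ib.2 ((mem_normalizer_iff.mp (hN b ib.1) _).mp id.2)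
    | inv b _ ib =>
      refine ⟨inv_mem ib.1, ?_⟩
      have e : x⁻¹ * (b⁻¹ * x * b⁻¹⁻¹) = b⁻¹ * (x⁻¹ * (b * x * b⁻¹))⁻¹ * b⁻¹⁻¹ := by group
      rw [e]
      exact (mem_normalizer_iff.mp (hN _ (inv_mem ib.1)) _).mp (N.inv_mem ib.2)
  obtain ⟨n, hn, hc⟩ := Coprime.exists_fixed_mem_leftCoset hN
    ((hP.coprime_A R hNP).coprime_dvd_left (card_dvd_of_le hsub))
    (Or.inl (Group.isSolvable_of_comm fun b d => Std.Commutative.comm b d)) hall
  exact ⟨n, hn, mem_centralizer_iff.mp hc a (mem_zpowers a)⟩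

/-- `t` inverts the fixed points of `u`. -/
theorem Good.inverted (R : Rep A u t) (hP : Good A u t P) {p : (AddMonoid.End V)ˣ} (hp : p ∈ P)
    (hu : Commute u p) : t * p * t⁻¹ = p⁻¹ := by
  set X := P ⊓ centralizer {u}
  have hXt : ∀ h : X, t * (h : (AddMonoid.End V)ˣ) * t⁻¹ ∈ X := fun h => by
    refine ⟨hP.conj_mem R.t_mem h.2.1, mem_centralizer_singleton_iff.mpr ?_⟩
    have hh : Commute u (h : (AddMonoid.End V)ˣ) := (mem_centralizer_singleton_iff.mp h.2.2).symm
    have h1 := hh.inv_left.map (MulAut.conj t).toMonoidHom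
    simp only [MulEquiv.coe_toMonoidHom, MulAut.conj_apply] at h1
    rw [show t * u⁻¹ * t⁻¹ = u by rw [← conj_inv, R.tut, inv_inv]] at h1
    exact h1.eq.symm
  let f : X → X := fun h => ⟨(h : (AddMonoid.End V)ˣ)⁻¹ * (t * h * t⁻¹),
    X.mul_mem (X.inv_mem h.2) (hXt h)⟩
  have hf : Function.Injective f := by
    intro a b hab
    have h1 : (a : (AddMonoid.End V)ˣ)⁻¹ * (t * a * t⁻¹)
        = (b : (AddMonoid.End V)ˣ)⁻¹ * (t * b * t⁻¹) := congrArg Subtype.val hab
    have h3 : Commute t ((b : (AddMonoid.End V)ˣ) * (a : (AddMonoid.End V)ˣ)⁻¹) := by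
      have h4 : t * ((b : (AddMonoid.End V)ˣ) * (a : (AddMonoid.End V)ˣ)⁻¹) * t⁻¹
          = (b : (AddMonoid.End V)ˣ) * (a : (AddMonoid.End V)ˣ)⁻¹ := by
        calc t * ((b : (AddMonoid.End V)ˣ) * (a : (AddMonoid.End V)ˣ)⁻¹) * t⁻¹
            = (b : (AddMonoid.End V)ˣ) * ((b : (AddMonoid.End V)ˣ)⁻¹ * (t * b * t⁻¹))
              * (t * a * t⁻¹)⁻¹ := by group
          _ = (b : (AddMonoid.End V)ˣ) * (a : (AddMonoid.End V)ˣ)⁻¹ := by rw [← h1]; group
      exact mul_inv_eq_iff_eq_mul.mp h4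
    have h2 := hP.fixed _ (P.mul_mem b.2.1 (P.inv_mem a.2.1))
      ((show Commute u (b : (AddMonoid.End V)ˣ) from (mem_centralizer_singleton_iff.mp b.2.2).symm).mul_right
        (show Commute u (a : (AddMonoid.End V)ˣ) from (mem_centralizer_singleton_iff.mp a.2.2).symm).inv_right) h3
    exact (Subtype.ext (mul_inv_eq_one.mp h2)).symm
  obtain ⟨h, hh⟩ := Finite.surjective_of_injective hf ⟨p, hp, mem_centralizer_singleton_iff.mpr hu.symm.eq⟩
  have e : p = (h : (AddMonoid.End V)ˣ)⁻¹ * (t * h * t⁻¹) := (congrArg Subtype.val hh).symm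
  calc t * p * t⁻¹ = t * (h : (AddMonoid.End V)ˣ)⁻¹ * t⁻¹ * ((t * t) * h * (t * t)⁻¹) := by rw [e]; group
    _ = p⁻¹ := by rw [R.t_two, e]; group

/-- Fixed points of `u` in `P` centralise fixed points of `u` in `V`. -/
theorem Good.fix_fixed (R : Rep A u t) (hP : Good A u t P) {p : (AddMonoid.End V)ˣ} (hp : p ∈ P)
    (hu : Commute u p) {w : V} (hw : (u : AddMonoid.End V) w = w) :
    (p : AddMonoid.End V) w = w := by
  have h1 : (u : AddMonoid.End V) ((p : AddMonoid.End V) w) = (p : AddMonoid.End V) w := by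
    rw [← mul_apply', hu.eq, mul_apply', hw]
  have h2 := R.neg_of_fixed h1
  rw [← mul_apply', mul_inv_eq_iff_eq_mul.mp (hP.inverted R hp hu), mul_apply', R.neg_of_fixed hw,
    map_neg, neg_inj] at h2
  have h3 : ((p * p : (AddMonoid.End V)ˣ) : AddMonoid.End V) w = w := by
    rw [mul_apply', ← h2, apply_inv_self]
  obtain ⟨m, hm⟩ := exists_pow_eq_self_of_coprime (x := p) (n := 2)
    (Nat.coprime_two_left.mpr (hP.odd.of_dvd_nat (Subgroup.orderOf_dvd_natCard P hp)))
  rw [← hm, pow_two]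
  exact fix_pow h3 m

end Rep

/-! ### Restriction to invariant subgroups of `V` -/

section Restrict

/-- The operators leaving `U` invariant. -/
def stab (U : AddSubgroup V) : Subgroup (AddMonoid.End V)ˣ where
  carrier := {g | ∀ v ∈ U, (g : AddMonoid.End V) v ∈ U}
  one_mem' := fun _ hv => hv
  mul_mem' := fun {a b} ha hb v hv => by rw [mul_apply']; exact ha _ (hb v hv)
  inv_mem' := fun {a} ha v hv => by
    obtain ⟨w, hw⟩ := Finite.surjective_of_injective
      (f := fun x : U => (⟨(a : AddMonoid.End V) x, ha x x.2⟩ : U)) (fun x y h => by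
        have h' : (a : AddMonoid.End V) x = (a : AddMonoid.End V) y := congrArg Subtype.val h
        have := congrArg ((a⁻¹ : (AddMonoid.End V)ˣ) : AddMonoid.End V) h'
        rw [inv_apply_self, inv_apply_self] at this
        exact Subtype.ext this) ⟨v, hv⟩
    have hw' : (a : AddMonoid.End V) w = v := congrArg Subtype.val hw
    rw [← hw', inv_apply_self]
    exact w.2

/-- An operator leaving `U` invariant, as an operator of `U`. -/
def restr (U : AddSubgroup V) (g : stab U) : AddMonoid.End U where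
  toFun v := ⟨((g : (AddMonoid.End V)ˣ) : AddMonoid.End V) v, g.2 v v.2⟩
  map_zero' := Subtype.ext (map_zero _)
  map_add' v w := Subtype.ext (map_add _ _ _)

/-- Restriction to an invariant subgroup. -/
def res (U : AddSubgroup V) : stab U →* (AddMonoid.End U)ˣ :=
  MonoidHom.toHomUnits
    { toFun := restr U
      map_one' := rfl
      map_mul' := fun _ _ => rfl }

theorem res_apply (U : AddSubgroup V) (g : stab U) (v : U) :
    (((res U g : (AddMonoid.End U)ˣ) : AddMonoid.End U) v : V)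
      = ((g : (AddMonoid.End V)ˣ) : AddMonoid.End V) v := rfl

theorem res_eq_one_iff (U : AddSubgroup V) (g : stab U) :
    res U g = 1 ↔ ∀ v ∈ U, ((g : (AddMonoid.End V)ˣ) : AddMonoid.End V) v = v := by
  constructor
  · intro h v hv
    have := res_apply U g ⟨v, hv⟩
    rw [h] at this
    exact this.symm
  · exact fun h => eq_one_of_forall fun v => Subtype.ext (h v v.2)

/-- The image of a subgroup leaving `U` invariant. -/
def resSub (U : AddSubgroup V) (X : Subgroup (AddMonoid.End V)ˣ) : Subgroup (AddMonoid.End U)ˣ :=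
  (X.subgroupOf (stab U)).map (res U)

theorem mem_resSub {U : AddSubgroup V} {X : Subgroup (AddMonoid.End V)ˣ} {g : stab U}
    (hg : (g : (AddMonoid.End V)ˣ) ∈ X) : res U g ∈ resSub U X :=
  mem_map_of_mem _ (mem_subgroupOf.mpr hg)

theorem exists_of_mem_resSub {U : AddSubgroup V} {X : Subgroup (AddMonoid.End V)ˣ}
    {p : (AddMonoid.End U)ˣ} (hp : p ∈ resSub U X) :
    ∃ g : stab U, (g : (AddMonoid.End V)ˣ) ∈ X ∧ res U g = p := by
  obtain ⟨g, hg, rfl⟩ := hp
  exact ⟨g, mem_subgroupOf.mp hg, rfl⟩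

theorem card_resSub_dvd {U : AddSubgroup V} {X : Subgroup (AddMonoid.End V)ˣ} (h : X ≤ stab U) :
    Nat.card (resSub U X) ∣ Nat.card X := by
  have h1 : Nat.card (resSub U X) ∣ Nat.card (X.subgroupOf (stab U)) := Subgroup.card_map_dvd _ _
  rwa [Coprime.card_subgroupOf h] at h1

variable {A P : Subgroup (AddMonoid.End V)ˣ} {u t : (AddMonoid.End V)ˣ} {U : AddSubgroup V}

theorem Rep.restrict (R : Rep A u t) (hA : A ≤ stab U) :
    Rep (resSub U A) (res U ⟨u, hA R.u_mem⟩) (res U ⟨t, hA R.t_mem⟩) where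
  u_mem := mem_resSub R.u_mem
  t_mem := mem_resSub R.t_mem
  card_dvd := (card_resSub_dvd hA).trans R.card_dvd
  solv := Coprime.isSolvable_map _ (Coprime.isSolvable_subgroupOf _ R.solv)
  gen := by
    intro p hp
    obtain ⟨g, hg, rfl⟩ := exists_of_mem_resSub hp
    have h : g ∈ closure ({⟨u, hA R.u_mem⟩, ⟨t, hA R.t_mem⟩} : Set (stab U)) := by
      have h1 := R.gen hg
      have h2 : closure ({u, t} : Set (AddMonoid.End V)ˣ)
          = (closure ({⟨u, hA R.u_mem⟩, ⟨t, hA R.t_mem⟩} : Set (stab U))).map (stab U).subtype := by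
        rw [MonoidHom.map_closure, Set.image_pair]; rfl
      rw [h2] at h1
      obtain ⟨g', hg', he⟩ := h1
      exact Subtype.ext he ▸ hg'
    have := mem_map_of_mem (res U) h
    rwa [MonoidHom.map_closure, Set.image_pair] at this
  u_three := by rw [← map_pow]; exact (congrArg (res U) (Subtype.ext R.u_three)).trans (map_one _)
  t_two := by rw [← map_mul]; exact (congrArg (res U) (Subtype.ext R.t_two)).trans (map_one _)
  tut := by
    rw [← map_inv, ← map_inv, ← map_mul, ← map_mul]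
    exact congrArg (res U) (Subtype.ext R.tut)
  fixed := fun v hu ht => Subtype.ext (R.fixed v (congrArg Subtype.val hu) (congrArg Subtype.val ht))
  cop := R.cop.coprime_dvd_left (AddSubgroup.card_addSubgroup_dvd_card U)

/-- The elements of `X` acting trivially on `U`. -/
def triv (U : AddSubgroup V) (X : Subgroup (AddMonoid.End V)ˣ) : Subgroup (AddMonoid.End V)ˣ where
  carrier := {p | p ∈ X ∧ ∀ v ∈ U, (p : AddMonoid.End V) v = v}
  one_mem' := ⟨one_mem _, fun _ _ => rfl⟩
  mul_mem' := fun {a b} ha hb =>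
    ⟨X.mul_mem ha.1 hb.1, fun v hv => by rw [mul_apply', hb.2 v hv, ha.2 v hv]⟩
  inv_mem' := fun {a} ha => ⟨X.inv_mem ha.1, fun v hv => fix_inv (ha.2 v hv)⟩

theorem norm_triv (hA : A ≤ stab U) (hP : Good A u t P) :
    A ≤ normalizer (triv U P : Set (AddMonoid.End V)ˣ) := by
  intro a ha
  refine mem_normalizer_iff.mpr fun p => ⟨fun hp => ⟨hP.conj_mem ha hp.1, fun v hv => ?_⟩,
    fun hp => ?_⟩
  · rw [mul_apply', mul_apply', hp.2 _ ((stab U).inv_mem (hA ha) v hv), apply_inv_self]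
  · have h1 := hP.conj_mem (A.inv_mem ha) hp.1
    simp only [inv_inv] at h1
    have e : a⁻¹ * (a * p * a⁻¹) * a = p := by group
    rw [e] at h1
    refine ⟨h1, fun v hv => ?_⟩
    have h2 := hp.2 _ (hA ha v hv)
    rw [mul_apply', mul_apply', inv_apply_self] at h2
    have := congrArg ((a⁻¹ : (AddMonoid.End V)ˣ) : AddMonoid.End V) h2
    rwa [inv_apply_self, inv_apply_self] at this

theorem res_conj_eq {a p : (AddMonoid.End V)ˣ} {ha : a ∈ stab U} {hp : p ∈ stab U}
    (h : Commute (res U ⟨a, ha⟩) (res U ⟨p, hp⟩)) :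
    ∀ v ∈ U, ((p⁻¹ * (a * p * a⁻¹) : (AddMonoid.End V)ˣ) : AddMonoid.End V) v = v := by
  have e : res U ((⟨p, hp⟩ : stab U)⁻¹ * (⟨a, ha⟩ * ⟨p, hp⟩ * (⟨a, ha⟩ : stab U)⁻¹)) = 1 := by
    rw [map_mul, map_mul, map_mul, map_inv, map_inv, h.eq]; group
  exact (res_eq_one_iff U _).mp e

theorem Good.restrict (R : Rep A u t) (hA : A ≤ stab U) (hP : Good A u t P) (hPU : P ≤ stab U) :
    Good (resSub U A) (res U ⟨u, hA R.u_mem⟩) (res U ⟨t, hA R.t_mem⟩) (resSub U P) where
  norm := by
    intro a ha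
    obtain ⟨g, hg, rfl⟩ := exists_of_mem_resSub ha
    refine mem_normalizer_iff.mpr fun p => ⟨fun hp => ?_, fun hp => ?_⟩
    · obtain ⟨q, hq, rfl⟩ := exists_of_mem_resSub hp
      rw [← map_inv, ← map_mul, ← map_mul]
      exact mem_resSub (hP.conj_mem hg hq)
    · obtain ⟨q, hq, he⟩ := exists_of_mem_resSub hp
      have : p = res U (g⁻¹ * q * g) := by rw [map_mul, map_mul, map_inv, he]; group
      rw [this]
      refine mem_resSub ?_
      have := hP.conj_mem (A.inv_mem hg) hq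
      simpa using this
  fixed := by
    intro p hp hu ht
    obtain ⟨⟨g, hgs⟩, hg, rfl⟩ := exists_of_mem_resSub hp
    have h1 := res_conj_eq hu
    have h2 := res_conj_eq ht
    have := hP.mem_of_fixed R (N := triv U P) (fun _ h => h.1) (norm_triv hA hP) hg
      ⟨P.mul_mem (P.inv_mem hg) (hP.conj_mem R.u_mem hg), h1⟩
      ⟨P.mul_mem (P.inv_mem hg) (hP.conj_mem R.t_mem hg), h2⟩
    exact (res_eq_one_iff U _).mpr this.2
  cop := hP.cop.coprime_dvd_left (card_resSub_dvd hPU)

end Restrict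

end Cfsg.Agent.S3Fpf
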