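import Cfsg.Agent.S3Fpf.Module

/-!
A central subgroup, on which the element of order three is fixed-point-free and which has no fixed
point on the module, forces commutativity.
-/

set_option autoImplicit false

open Subgroup
open scoped commutatorElement

namespace Cfsg.Agent.S3Fpf

universe v

variable {V : Type v} [AddCommGroup V] [Finite V]

/-- The hypotheses of this file. -/
structure Central (A : Subgroup (AddMonoid.End V)ˣ) (u t : (AddMonoid.End V)ˣ)
    (P Z : Subgroup (AddMonoid.End V)ˣ) : Prop where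
  rep : Rep A u t
  good : Good A u t P
  le : Z ≤ P
  norm : ∀ a ∈ A, ∀ z ∈ Z, a * z * a⁻¹ ∈ Z
  central : ∀ z ∈ Z, ∀ p ∈ P, Commute z p
  zero : ∀ v : V, (∀ z ∈ Z, (z : AddMonoid.End V) v = v) → v = 0
  fpf : ∀ z ∈ Z, Commute u z → z = 1

/-- The quotient of the conjugate of `y` under `a` by `y`. -/
def quo {G : Type*} [Group G] (a y : G) : G := y⁻¹ * (a * y * a⁻¹)

/-- The common fixed points of the `quo a y`, `y ∈ Z`. -/
def fixQuo (a : (AddMonoid.End V)ˣ) (Z : Subgroup (AddMonoid.End V)ˣ) : AddSubgroup V where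
  carrier := {v | ∀ y ∈ Z, ((quo a y : (AddMonoid.End V)ˣ) : AddMonoid.End V) v = v}
  zero_mem' := fun _ _ => map_zero _
  add_mem' := fun {v w} hv hw y hy => by rw [map_add, hv y hy, hw y hy]
  neg_mem' := fun {v} hv y hy => by rw [map_neg, hv y hy]

variable {A P Z : Subgroup (AddMonoid.End V)ˣ} {u t : (AddMonoid.End V)ˣ}

theorem Central.rot (h : Central A u t P Z) : Central A u (u * t * u⁻¹) P Z where
  rep := h.rep.rot
  good := h.good.rot h.rep
  le := h.le
  norm := h.norm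
  central := h.central
  zero := h.zero
  fpf := h.fpf

theorem Central.quo_mem (h : Central A u t P Z) {a y : (AddMonoid.End V)ˣ} (ha : a ∈ A) (hy : y ∈ Z) :
    quo a y ∈ Z := Z.mul_mem (Z.inv_mem hy) (h.norm a ha y hy)

theorem Central.comm (h : Central A u t P Z) {y z : (AddMonoid.End V)ˣ} (hy : y ∈ Z) (hz : z ∈ Z) :
    Commute y z := h.central y hy z (h.le hz)

theorem Central.u2_mem (h : Central A u t P Z) : u * u ∈ A := A.mul_mem h.rep.u_mem h.rep.u_mem

theorem Central.fix_eq_zero (h : Central A u t P Z) {w : V} {a : (AddMonoid.End V)ˣ}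
    (hsurj : ∀ k ∈ Z, ∃ y ∈ Z, quo a y = k) (hw : ∀ y ∈ Z, dif (quo a y) w = 0) : w = 0 :=
  h.zero w fun k hk => by obtain ⟨y, hy, rfl⟩ := hsurj k hk; exact dif_eq_zero.mp (hw y hy)

theorem Central.surj (h : Central A u t P Z) {a : (AddMonoid.End V)ˣ} (ha : a ∈ A)
    (hfix : ∀ z ∈ Z, Commute a z → z = 1) : ∀ k ∈ Z, ∃ y ∈ Z, quo a y = k := by
  intro k hk
  let f : Z → Z := fun y => ⟨quo a y, h.quo_mem ha y.2⟩
  have hf : Function.Injective f := by
    intro y y' e
    have e' : quo a (y : (AddMonoid.End V)ˣ) = quo a (y' : (AddMonoid.End V)ˣ) := congrArg Subtype.val e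
    have h1 : a * ((y : (AddMonoid.End V)ˣ) * (y' : (AddMonoid.End V)ˣ)⁻¹) * a⁻¹
        = (y : (AddMonoid.End V)ˣ) * (y' : (AddMonoid.End V)ˣ)⁻¹ := by
      calc a * ((y : (AddMonoid.End V)ˣ) * (y' : (AddMonoid.End V)ˣ)⁻¹) * a⁻¹
          = y * quo a y * ((y' : (AddMonoid.End V)ˣ) * quo a y')⁻¹ := by simp only [quo]; group
        _ = _ := by rw [e']; group
    exact Subtype.ext (mul_inv_eq_one.mp (hfix _ (Z.mul_mem y.2 (Z.inv_mem y'.2))
      (mul_inv_eq_iff_eq_mul.mp h1)))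
  obtain ⟨y, hy⟩ := Finite.surjective_of_injective hf ⟨k, hk⟩
  exact ⟨y, y.2, congrArg Subtype.val hy⟩

theorem Central.surj_u (h : Central A u t P Z) : ∀ k ∈ Z, ∃ y ∈ Z, quo u y = k :=
  h.surj h.rep.u_mem h.fpf

theorem Central.surj_u2 (h : Central A u t P Z) : ∀ k ∈ Z, ∃ y ∈ Z, quo (u * u) y = k :=
  h.surj h.u2_mem fun z hz hc => h.fpf z hz (by
    rw [h.rep.u_sq] at hc; exact inv_inv u ▸ hc.inv_left)

/-- The product identity for an abelian invariant subgroup. -/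
theorem five_dif (R : Rep A u t) (hn : ∀ a ∈ A, ∀ z ∈ Z, a * z * a⁻¹ ∈ Z)
    (hcm : ∀ y ∈ Z, ∀ z ∈ Z, Commute y z) {y y' y₁ y₂ y₃ : (AddMonoid.End V)ˣ} (hy : y ∈ Z)
    (hy' : y' ∈ Z) (h₁ : y₁ ∈ Z) (h₂ : y₂ ∈ Z) (h₃ : y₃ ∈ Z) (v : V) :
    dif (quo u y) (dif (quo (u * u) y')
      (dif (quo t y₁) (dif (quo (u * t * u⁻¹) y₂) (dif (quo (u * (u * t * u⁻¹) * u⁻¹) y₃) v)))) = 0 := by
  have hu2 : u * u ∈ A := A.mul_mem R.u_mem R.u_mem
  let τ : Fin 6 → (AddMonoid.End V)ˣ :=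
    ![1, u, u * u, t, u * t * u⁻¹, u * (u * t * u⁻¹) * u⁻¹]
  have hτA : ∀ i, τ i ∈ A := by
    intro i; fin_cases i
    · exact one_mem _
    · exact R.u_mem
    · exact hu2
    · exact R.t_mem
    · exact R.rot.t_mem
    · exact R.rot.rot.t_mem
  have hN : ∑ i, (τ i : AddMonoid.End V) = 0 := by
    refine AddMonoidHom.ext fun w => ?_
    have hut : ∀ x : V, (t : AddMonoid.End V) ((u : AddMonoid.End V) x)
        = (u : AddMonoid.End V) ((u : AddMonoid.End V) ((t : AddMonoid.End V) x)) := fun x => by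
      rw [← mul_apply', R.tu, ← R.u_sq]; rfl
    have htt : ∀ x : V, (t : AddMonoid.End V) ((t : AddMonoid.End V) x) = x := fun x => by
      rw [← mul_apply', R.t_two]; rfl
    have huuu : ∀ x : V, (u : AddMonoid.End V) ((u : AddMonoid.End V) ((u : AddMonoid.End V) x)) = x :=
      fun x => by
      rw [← mul_apply', ← mul_apply', show u * u * u = u ^ 3 by
        simp only [pow_succ, pow_zero, one_mul], R.u_three]; rfl
    have hui : ∀ x : V, ((u⁻¹ : (AddMonoid.End V)ˣ) : AddMonoid.End V) x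
        = (u : AddMonoid.End V) ((u : AddMonoid.End V) x) := fun x => by rw [← R.u_sq]; rfl
    have e : (∑ i, (τ i : AddMonoid.End V)) w
        = w + (u : AddMonoid.End V) w + ((u * u : (AddMonoid.End V)ˣ) : AddMonoid.End V) w
          + (t : AddMonoid.End V) w + ((u * t * u⁻¹ : (AddMonoid.End V)ˣ) : AddMonoid.End V) w
          + ((u * (u * t * u⁻¹) * u⁻¹ : (AddMonoid.End V)ˣ) : AddMonoid.End V) w := by
      rw [Fin.sum_univ_six]; rfl
    refine e.trans (R.fixed _ ?_ ?_) <;>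
      simp only [mul_apply', hui, hut, htt, huuu, map_add] <;> abel
  have key := regular_orbit_identity (fun i => (τ i : AddMonoid.End V))
    (fun i (y : Z) => ((τ i * y * (τ i)⁻¹ : (AddMonoid.End V)ˣ) : AddMonoid.End V)) 0 rfl
    (fun i j x y => Commute.units_val (hcm _ (hn _ (hτA i) _ x.2) _ (hn _ (hτA j) _ y.2)))
    (fun i x => by
      rw [← Units.val_mul, ← Units.val_mul]
      congr 1
      show τ i * (τ 0 * _ * (τ 0)⁻¹) = _
      simp [τ, mul_assoc])
    hN [1, 2, 3, 4, 5] (by intro i hi; fin_cases i <;> simp_all)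
  have e := DFunLike.congr_fun
    (key ![⟨1, one_mem _⟩, ⟨y, hy⟩, ⟨y', hy'⟩, ⟨y₁, h₁⟩, ⟨y₂, h₂⟩, ⟨y₃, h₃⟩]) v
  have hsub : ∀ (b x : (AddMonoid.End V)ˣ) (z : V), (x : AddMonoid.End V) z
      - ((b * x * b⁻¹ : (AddMonoid.End V)ˣ) : AddMonoid.End V) z
      = -(x : AddMonoid.End V) (dif (quo b x) z) := fun b x z => by
    have hx : b * x * b⁻¹ = x * quo b x := by simp only [quo]; group
    rw [hx, mul_apply']; simp only [dif, map_sub]; abel
  simp only [List.map_cons, List.map_nil, List.prod_cons, List.prod_nil, mul_one] at e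
  change ((((1 * y * 1⁻¹ : (AddMonoid.End V)ˣ)) : AddMonoid.End V) - (u * y * u⁻¹ : (AddMonoid.End V)ˣ))
    (((((1 * y' * 1⁻¹ : (AddMonoid.End V)ˣ)) : AddMonoid.End V) - (u * u * y' * (u * u)⁻¹ : (AddMonoid.End V)ˣ))
    (((((1 * y₁ * 1⁻¹ : (AddMonoid.End V)ˣ)) : AddMonoid.End V) - (t * y₁ * t⁻¹ : (AddMonoid.End V)ˣ))
    (((((1 * y₂ * 1⁻¹ : (AddMonoid.End V)ˣ)) : AddMonoid.End V)
      - (u * t * u⁻¹ * y₂ * (u * t * u⁻¹)⁻¹ : (AddMonoid.End V)ˣ))
    (((((1 * y₃ * 1⁻¹ : (AddMonoid.End V)ˣ)) : AddMonoid.End V)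
      - (u * (u * t * u⁻¹) * u⁻¹ * y₃ * (u * (u * t * u⁻¹) * u⁻¹)⁻¹ : (AddMonoid.End V)ˣ)) v)))) = 0 at e
  have hsub' : ∀ (b x : (AddMonoid.End V)ˣ) (z : V),
      ((x : AddMonoid.End V) - ((b * x * b⁻¹ : (AddMonoid.End V)ˣ) : AddMonoid.End V)) z
      = -(x : AddMonoid.End V) (dif (quo b x) z) := hsub
  simp only [one_mul, inv_one, mul_one, hsub', map_neg, dif_map_neg, neg_neg] at e
  have hq : ∀ {b x : (AddMonoid.End V)ˣ}, b ∈ A → x ∈ Z → quo b x ∈ Z := fun {b x} hb hx => Z.mul_mem (Z.inv_mem hx) (hn b hb x hx)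
  have e1 := apply_eq_zero (neg_eq_zero.mp e)
  rw [← apply_dif (hcm _ hy' _ (hq R.u_mem hy))] at e1
  have e2 := apply_eq_zero e1
  simp only [← apply_dif (hcm _ h₁ _ (hq R.u_mem hy)), ← apply_dif (hcm _ h₁ _ (hq hu2 hy')),
    ← apply_dif (hcm _ h₂ _ (hq R.u_mem hy)), ← apply_dif (hcm _ h₂ _ (hq hu2 hy')),
    ← apply_dif (hcm _ h₂ _ (hq R.t_mem h₁)), ← apply_dif (hcm _ h₃ _ (hq R.u_mem hy)),
    ← apply_dif (hcm _ h₃ _ (hq hu2 hy')), ← apply_dif (hcm _ h₃ _ (hq R.t_mem h₁)),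
    ← apply_dif (hcm _ h₃ _ (hq R.rot.t_mem h₂))] at e2
  exact apply_eq_zero (apply_eq_zero (apply_eq_zero e2))

/-- The product identity for the three reflection kernels. -/
theorem Central.triple (h : Central A u t P Z) {y₁ y₂ y₃ : (AddMonoid.End V)ˣ} (h₁ : y₁ ∈ Z)
    (h₂ : y₂ ∈ Z) (h₃ : y₃ ∈ Z) (v : V) :
    dif (quo t y₁) (dif (quo (u * t * u⁻¹) y₂) (dif (quo (u * (u * t * u⁻¹) * u⁻¹) y₃) v)) = 0 :=
  h.fix_eq_zero h.surj_u2 fun _ hy' => h.fix_eq_zero h.surj_u fun _ hy =>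
    five_dif h.rep h.norm (fun _ hy _ hz => h.comm hy hz) hy hy' h₁ h₂ h₃ v

/-- Two reflection kernels have no common fixed point. -/
theorem Central.pair (h : Central A u t P Z) {w : V} (h₁ : w ∈ fixQuo t Z)
    (h₂ : w ∈ fixQuo (u * t * u⁻¹) Z) : w = 0 := by
  refine h.fix_eq_zero h.surj_u fun y hy => dif_eq_zero.mpr ?_
  have e : quo u y = quo (u * t * u⁻¹) y * quo t (u * t * u⁻¹ * y * (u * t * u⁻¹)⁻¹) := by
    conv_lhs => rw [← h.rep.t_mul_refl]
    simp only [quo]; group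
  rw [e, mul_apply', h₁ _ (h.norm _ h.rep.rot.t_mem y hy), h₂ y hy]

theorem Central.fix_mem_of_comm {a g : (AddMonoid.End V)ˣ} (hg : ∀ y ∈ Z, Commute g (quo a y)) {v : V}
    (hv : v ∈ fixQuo a Z) : (g : AddMonoid.End V) v ∈ fixQuo a Z := fun y hy => by
  rw [← mul_apply', ← (hg y hy).eq, mul_apply', hv y hy]

theorem Central.rot3 (h : Central A u t P Z) :
    u * (u * (u * t * u⁻¹) * u⁻¹) * u⁻¹ = t := by
  calc u * (u * (u * t * u⁻¹) * u⁻¹) * u⁻¹ = u ^ 3 * t * (u ^ 3)⁻¹ := by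
        simp only [pow_succ, pow_zero, one_mul, mul_inv_rev, mul_assoc]
    _ = t := by rw [h.rep.u_three]; group

/-- An operator commuting with `Z` and trivial on the three fixed spaces is trivial. -/
theorem Central.kill (h : Central A u t P Z) {g : (AddMonoid.End V)ˣ}
    (hg : ∀ z ∈ Z, Commute g z)
    (g₁ : ∀ v ∈ fixQuo t Z, (g : AddMonoid.End V) v = v)
    (g₂ : ∀ v ∈ fixQuo (u * t * u⁻¹) Z, (g : AddMonoid.End V) v = v)
    (g₃ : ∀ v ∈ fixQuo (u * (u * t * u⁻¹) * u⁻¹) Z, (g : AddMonoid.End V) v = v) : g = 1 := by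
  set t₂ := u * t * u⁻¹
  set t₃ := u * t₂ * u⁻¹
  refine eq_one_of_forall fun v => dif_eq_zero.mp ?_
  set d := dif g v
  have hA₁ := h.rep.t_mem
  have hA₂ : t₂ ∈ A := h.rep.rot.t_mem
  have hA₃ : t₃ ∈ A := h.rep.rot.rot.t_mem
  have hc : ∀ {a b y z : (AddMonoid.End V)ˣ}, a ∈ A → b ∈ A → y ∈ Z → z ∈ Z →
      Commute (quo a y) (quo b z) := fun ha hb hy hz => h.comm (h.quo_mem ha hy) (h.quo_mem hb hz)
  have hgc : ∀ {a y : (AddMonoid.End V)ˣ}, a ∈ A → y ∈ Z → Commute g (quo a y) :=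
    fun ha hy => hg _ (h.quo_mem ha hy)
  -- products of two differences fall into the fixed spaces
  have H : ∀ {a b c : (AddMonoid.End V)ˣ}, a ∈ A → b ∈ A → c ∈ A →
      (∀ y₁ ∈ Z, ∀ y₂ ∈ Z, ∀ y₃ ∈ Z, ∀ x : V, dif (quo a y₁) (dif (quo b y₂) (dif (quo c y₃) x)) = 0) →
      (∀ x ∈ fixQuo a Z, (g : AddMonoid.End V) x = x) →
      ∀ y ∈ Z, ∀ z ∈ Z, dif (quo b y) (dif (quo c z) d) = 0 := by
    intro a b c ha hb hc' h3 hfix y hy z hz
    have hx : dif (quo b y) (dif (quo c z) v) ∈ fixQuo a Z := fun x hx =>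
      dif_eq_zero.mp (h3 x hx y hy z hz v)
    have e := dif_eq_zero.mpr (hfix _ hx)
    rw [dif_comm (hgc hb hy), dif_comm (hgc hc' hz)] at e
    exact e
  have P₁ := H hA₁ hA₂ hA₃ (fun _ a _ b _ c x => h.triple a b c x) g₁
  have P₂ := H hA₂ hA₁ hA₃ (fun _ a _ b _ c x => by
    rw [dif_comm (hc hA₂ hA₁ a b)]; exact h.triple b a c x) g₂
  have P₃ := H hA₃ hA₁ hA₂ (fun _ a _ b _ c x => by
    rw [dif_comm (hc hA₃ hA₁ a b), dif_comm (hc hA₃ hA₂ a c)]; exact h.triple b c a x) g₃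
  have f₃ : d ∈ fixQuo t₃ Z := fun z hz => dif_eq_zero.mp
    (h.pair (fun y hy => dif_eq_zero.mp (P₂ y hy z hz)) (fun y hy => dif_eq_zero.mp (P₁ y hy z hz)))
  have f₂ : d ∈ fixQuo t₂ Z := fun z hz => dif_eq_zero.mp (by
    refine h.rot.rot.pair (w := dif (quo t₂ z) d) (fun y hy => dif_eq_zero.mp ?_)
      (fun y hy => dif_eq_zero.mp ?_)
    · rw [dif_comm (hc hA₃ hA₂ hy hz)]; exact P₁ z hz y hy
    · show dif (quo (u * t₃ * u⁻¹) y) _ = 0
      rw [h.rot3]; exact P₃ y hy z hz)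
  exact h.rot.pair f₂ f₃

/-- The reflection is `-1` on the fixed space of its kernel. -/
theorem Central.t_neg (h : Central A u t P Z) {v : V} (hv : v ∈ fixQuo t Z) :
    (t : AddMonoid.End V) v = -v := by
  have R := h.rep
  set w := v + (t : AddMonoid.End V) v with hw
  have htw : (t : AddMonoid.End V) w = w := by
    rw [hw, map_add, ← mul_apply', R.t_two]; exact add_comm _ _
  have hwX : w ∈ fixQuo t Z := by
    refine (fixQuo t Z).add_mem hv fun y hy => ?_
    have e : quo t y * t = t * (quo t y)⁻¹ := by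
      have h1 : t * (quo t y)⁻¹ = t * (t * y * t⁻¹)⁻¹ * y := by simp only [quo]; group
      have h2 : t * (t * y * t⁻¹)⁻¹ * y = t * t * (y⁻¹ * t⁻¹ * y) := by group
      have h3 : quo t y * t = y⁻¹ * t * y := by simp only [quo]; group
      rw [h1, h2, R.t_two, one_mul, R.t_inv, h3]
    rw [← mul_apply', e, mul_apply', fix_inv (hv y hy)]
  -- orbit sums of fixed vectors of `t` vanish
  have horb : ∀ g ∈ Z, (g : AddMonoid.End V) w
      + ((u * g * u⁻¹ : (AddMonoid.End V)ˣ) : AddMonoid.End V) ((u : AddMonoid.End V) w)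
      + ((u * u * g * (u * u)⁻¹ : (AddMonoid.End V)ˣ) : AddMonoid.End V)
          ((u : AddMonoid.End V) ((u : AddMonoid.End V) w)) = 0 := by
    intro g hg
    set x := (g : AddMonoid.End V) w
    have htx : (t : AddMonoid.End V) x = x := by
      have e : t * g = g * quo t g * t := by simp only [quo]; group
      rw [← mul_apply', e, mul_apply', htw, mul_apply', hwX g hg]
    have e1 : ((u * g * u⁻¹ : (AddMonoid.End V)ˣ) : AddMonoid.End V) ((u : AddMonoid.End V) w)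
        = (u : AddMonoid.End V) x := by rw [← mul_apply', inv_mul_cancel_right]; rfl
    have e2 : ((u * u * g * (u * u)⁻¹ : (AddMonoid.End V)ˣ) : AddMonoid.End V)
        ((u : AddMonoid.End V) ((u : AddMonoid.End V) w)) = (u : AddMonoid.End V) ((u : AddMonoid.End V) x) := by
      rw [← mul_apply' u u, ← mul_apply', inv_mul_cancel_right]; rfl
    rw [e1, e2]
    have huuu : (u : AddMonoid.End V) ((u : AddMonoid.End V) ((u : AddMonoid.End V) x)) = x := by
      rw [← mul_apply', ← mul_apply', show u * u * u = u ^ 3 by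
        simp only [pow_succ, pow_zero, one_mul], R.u_three]; rfl
    have hut : ∀ x : V, (t : AddMonoid.End V) ((u : AddMonoid.End V) x)
        = (u : AddMonoid.End V) ((u : AddMonoid.End V) ((t : AddMonoid.End V) x)) := fun x => by
      rw [← mul_apply', R.tu, ← R.u_sq]; rfl
    have huuuu : ∀ x : V, (u : AddMonoid.End V) ((u : AddMonoid.End V) ((u : AddMonoid.End V) x)) = x :=
      fun x => by
      rw [← mul_apply', ← mul_apply', show u * u * u = u ^ 3 by
        simp only [pow_succ, pow_zero, one_mul], R.u_three]; rfl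
    refine R.fixed _ ?_ ?_
    · rw [map_add, map_add, huuu]; abel
    · rw [map_add, map_add, hut ((u : AddMonoid.End V) x), hut x, htx, huuuu]; abel
  have hzero : w = 0 := by
    refine h.fix_eq_zero h.surj_u2 fun g hg => h.fix_eq_zero h.surj_u fun k hk => ?_
    set g₁ := u * g * u⁻¹ with hg₁
    set g₂ := u * u * g * (u * u)⁻¹ with hg₂
    set k₁ := u * k * u⁻¹ with hk₁
    set k₂ := u * u * k * (u * u)⁻¹ with hk₂
    have hz : g₁ ∈ Z ∧ g₂ ∈ Z ∧ k₁ ∈ Z ∧ k₂ ∈ Z :=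
      ⟨h.norm _ R.u_mem g hg, h.norm _ h.u2_mem g hg, h.norm _ R.u_mem k hk, h.norm _ h.u2_mem k hk⟩
    have c₁ := congrArg ((g₂ * k₁ : (AddMonoid.End V)ˣ) : AddMonoid.End V) (horb 1 (one_mem _))
    have c₂ := congrArg ((k₁ : (AddMonoid.End V)ˣ) : AddMonoid.End V) (horb g hg)
    have c₃ := congrArg ((g₂ : (AddMonoid.End V)ˣ) : AddMonoid.End V) (horb k hk)
    have c₄ := horb (g * k) (Z.mul_mem hg hk)
    rw [show u * (g * k) * u⁻¹ = g₁ * k₁ by simp only [hg₁, hk₁]; group,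
      show u * u * (g * k) * (u * u)⁻¹ = g₂ * k₂ by simp only [hg₂, hk₂]; group,
      (h.comm hz.1 hz.2.2.1).eq] at c₄
    simp only [mul_one, mul_inv_cancel, map_add, map_zero, mul_apply', Units.val_one,
      AddMonoid.End.one_apply, ← hg₁, ← hg₂, ← hk₁, ← hk₂] at c₁ c₂ c₃ c₄
    have hgk := congrArg (fun x : (AddMonoid.End V)ˣ => (x : AddMonoid.End V)
      ((u : AddMonoid.End V) ((u : AddMonoid.End V) w))) (h.comm hz.2.1 hz.2.2.1).eq
    simp only [mul_apply'] at hgk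
    rw [hgk] at c₁
    rw [dif_comm (h.comm (h.quo_mem R.u_mem hk) (h.quo_mem h.u2_mem hg))]
    refine apply_eq_zero (g := g * k) ?_
    have e : ((g * k : (AddMonoid.End V)ˣ) : AddMonoid.End V) (dif (quo (u * u) g) (dif (quo u k) w))
        = ((g₂ : (AddMonoid.End V)ˣ) : AddMonoid.End V) ((k₁ : AddMonoid.End V) w)
          - (g₂ : AddMonoid.End V) ((k : AddMonoid.End V) w)
          - (k₁ : AddMonoid.End V) ((g : AddMonoid.End V) w)
          + (g : AddMonoid.End V) ((k : AddMonoid.End V) w) := by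
      have e1 : g * k * (quo (u * u) g * quo u k) = g₂ * k₁ := by
        simp only [hg₂, hk₁]
        calc g * k * (quo (u * u) g * quo u k) = g * (k * quo (u * u) g) * quo u k := by group
          _ = g * (quo (u * u) g * k) * quo u k := by rw [(h.comm hk (h.quo_mem h.u2_mem hg)).eq]
          _ = _ := by simp only [quo]; group
      have e2 : g * k * quo (u * u) g = g₂ * k := by
        rw [mul_assoc, (h.comm hk (h.quo_mem h.u2_mem hg)).eq]; simp only [hg₂, quo]; group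
      have e3 : g * k * quo u k = k₁ * g := by
        rw [(h.comm hz.2.2.1 hg).eq]; simp only [hk₁, quo]; group
      simp only [dif, map_sub, ← mul_apply', ← mul_assoc] at *
      rw [e1, e2, e3]; abel
    rw [e]
    have key := congrArg₂ (· + ·) (congrArg₂ (· - ·) (congrArg₂ (· - ·) c₁ c₂) c₃) c₄
    simp only [sub_self, sub_zero, add_zero] at key
    rw [← key]; abel
  exact eq_neg_of_add_eq_zero_right hzero

theorem Central.le_stab (h : Central A u t P Z) {a : (AddMonoid.End V)ˣ} (ha : a ∈ A) :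
    P ≤ stab (fixQuo a Z) := fun _ hp _ hv =>
  Central.fix_mem_of_comm (fun _ hy => (h.central _ (h.quo_mem ha hy) _ hp).symm) hv

theorem Central.t_mem_stab (h : Central A u t P Z) {v : V} (hv : v ∈ fixQuo t Z) :
    (t : AddMonoid.End V) v ∈ fixQuo t Z := by
  rw [h.t_neg hv]; exact neg_mem hv

/-- On the fixed space of its kernel, conjugation by the reflection is trivial. -/
theorem Central.t_conj (h : Central A u t P Z) {p : (AddMonoid.End V)ˣ} (hp : p ∈ P) {v : V}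
    (hv : v ∈ fixQuo t Z) : ((t * p * t⁻¹ : (AddMonoid.End V)ˣ) : AddMonoid.End V) v
      = (p : AddMonoid.End V) v := by
  rw [h.rep.t_inv, mul_apply', mul_apply', h.t_neg hv, map_neg, map_neg,
    h.t_neg (h.le_stab h.rep.t_mem hp v hv), neg_neg]

/-- An element of `P` fixed by the element of order three is trivial. -/
theorem Central.eq_one_of_commute (h : Central A u t P Z) {p : (AddMonoid.End V)ˣ} (hp : p ∈ P)
    (hu : Commute u p) : p = 1 := by
  have H : ∀ t' : (AddMonoid.End V)ˣ, Central A u t' P Z → ∀ v ∈ fixQuo t' Z,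
      (p : AddMonoid.End V) v = v := by
    intro t' h' v hv
    have h1 := h'.t_conj hp hv
    rw [h'.good.inverted h'.rep hp hu] at h1
    have h2 : ((p * p : (AddMonoid.End V)ˣ) : AddMonoid.End V) v = v := by
      rw [mul_apply', ← h1, apply_inv_self]
    obtain ⟨m, hm⟩ := exists_pow_eq_self_of_coprime (x := p) (n := 2)
      (Nat.coprime_two_left.mpr (h.good.odd.of_dvd_nat (Subgroup.orderOf_dvd_natCard P hp)))
    rw [← hm, pow_two]
    exact fix_pow h2 m
  exact h.kill (fun z hz => (h.central z hz p hp).symm) (H t h) (H _ h.rot) (H _ h.rot.rot)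

theorem Central.telescope (h : Central A u t P Z) {p : (AddMonoid.End V)ˣ} (hp : p ∈ P) :
    p * (u * p * u⁻¹) * (u * u * p * (u * u)⁻¹) = 1 ∧
      p * (u * u * p * (u * u)⁻¹) * (u * p * u⁻¹) = 1 := by
  have hu3 : u * u * u = 1 := by
    rw [← h.rep.u_three]; simp only [pow_succ, pow_zero, one_mul]
  have surj : ∀ a ∈ A, (∀ q ∈ P, Commute a q → q = 1) → ∃ x ∈ P, quo a x = p := by
    intro a ha hfix
    let f : P → P := fun y => ⟨quo a y, P.mul_mem (P.inv_mem y.2) (h.good.conj_mem ha y.2)⟩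
    have hf : Function.Injective f := by
      intro y y' e
      have e' : quo a (y : (AddMonoid.End V)ˣ) = quo a (y' : (AddMonoid.End V)ˣ) :=
        congrArg Subtype.val e
      have h1 : a * ((y : (AddMonoid.End V)ˣ) * (y' : (AddMonoid.End V)ˣ)⁻¹) * a⁻¹
          = (y : (AddMonoid.End V)ˣ) * (y' : (AddMonoid.End V)ˣ)⁻¹ := by
        calc a * ((y : (AddMonoid.End V)ˣ) * (y' : (AddMonoid.End V)ˣ)⁻¹) * a⁻¹
            = y * quo a y * ((y' : (AddMonoid.End V)ˣ) * quo a y')⁻¹ := by simp only [quo]; group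
          _ = _ := by rw [e']; group
      exact Subtype.ext (mul_inv_eq_one.mp (hfix _ (P.mul_mem y.2 (P.inv_mem y'.2))
        (mul_inv_eq_iff_eq_mul.mp h1)))
    obtain ⟨y, hy⟩ := Finite.surjective_of_injective hf ⟨p, hp⟩
    exact ⟨y, y.2, congrArg Subtype.val hy⟩
  constructor
  · obtain ⟨x, -, rfl⟩ := surj u h.rep.u_mem fun q hq hc => h.eq_one_of_commute hq hc
    calc _ = x⁻¹ * ((u * u * u) * x * (u * u * u)⁻¹) := by simp only [quo]; group
      _ = 1 := by rw [hu3]; group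
  · obtain ⟨x, -, rfl⟩ := surj (u * u) h.u2_mem fun q hq hc => h.eq_one_of_commute hq (by
      rw [h.rep.u_sq] at hc; exact inv_inv u ▸ hc.inv_left)
    calc quo (u * u) x * (u * u * quo (u * u) x * (u * u)⁻¹) * (u * quo (u * u) x * u⁻¹)
        = quo (u * u) x * (u * u * quo (u * u) x * (u * u)⁻¹) * ((u * u * u) * (u * quo (u * u) x * u⁻¹)
            * (u * u * u)⁻¹) := by rw [hu3]; group
      _ = x⁻¹ * ((u * u * u) * (u * u * u) * x * ((u * u * u) * (u * u * u))⁻¹) := by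
          simp only [quo]; group
      _ = 1 := by rw [hu3]; group

/-- `P` acts as a commutative group on the fixed space of a reflection kernel. -/
theorem Central.comm_on (h : Central A u t P Z) {p q : (AddMonoid.End V)ˣ} (hp : p ∈ P) (hq : q ∈ P)
    {v : V} (hv : v ∈ fixQuo t Z) :
    ((p * q : (AddMonoid.End V)ˣ) : AddMonoid.End V) v
      = ((q * p : (AddMonoid.End V)ˣ) : AddMonoid.End V) v := by
  have R := h.rep
  have hst : P ≤ stab (fixQuo t Z) := h.le_stab R.t_mem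
  let φ : P →* (AddMonoid.End (fixQuo t Z))ˣ := (res (fixQuo t Z)).comp (inclusion hst)
  set t₂ := u * t * u⁻¹ with ht₂
  have hA₂ : t₂ ∈ A := R.rot.t_mem
  let cj : ∀ a ∈ A, P →* P := fun a ha =>
    { toFun := fun x => ⟨a * x * a⁻¹, h.good.conj_mem ha x.2⟩
      map_one' := Subtype.ext (by simp)
      map_mul' := fun x y => Subtype.ext (by push_cast; group) }
  have hφt : ∀ x : P, φ (cj t R.t_mem x) = φ x := fun x =>
    Units.ext (AddMonoidHom.ext fun v => Subtype.ext (h.t_conj x.2 v.2))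
  have tu : t * u = t₂ := by
    conv_lhs => rw [← R.t_mul_refl]
    rw [← mul_assoc, R.t_two, one_mul]
  have t₂t : t₂ * t = u * u := by rw [ht₂, R.refl_mul_t, R.u_sq]
  have hφu : ∀ x : P, φ (cj u R.u_mem x) = φ (cj t₂ hA₂ x) := fun x => by
    rw [← hφt (cj u R.u_mem x)]
    congr 1
    apply Subtype.ext
    show t * (u * x * u⁻¹) * t⁻¹ = t₂ * x * t₂⁻¹
    rw [← tu]; group
  have hcjt₂ : ∀ x : P, cj t₂ hA₂ (cj t₂ hA₂ x) = x := fun x => Subtype.ext (by
    show t₂ * (t₂ * (x : (AddMonoid.End V)ˣ) * t₂⁻¹) * t₂⁻¹ = x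
    calc t₂ * (t₂ * (x : (AddMonoid.End V)ˣ) * t₂⁻¹) * t₂⁻¹ = (t₂ * t₂) * x * (t₂ * t₂)⁻¹ := by group
      _ = x := by rw [R.rot.t_two]; group)
  have tele : ∀ x : P, φ x * φ (cj u R.u_mem x) * φ (cj (u * u) h.u2_mem x) = 1 ∧
      φ x * φ (cj (u * u) h.u2_mem x) * φ (cj u R.u_mem x) = 1 := fun x => by
    constructor <;> rw [← map_mul, ← map_mul] <;> refine (congrArg φ (Subtype.ext ?_)).trans (map_one φ)
    · exact (h.telescope x.2).1
    · exact (h.telescope x.2).2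
  -- the elements inverted by the second reflection commute
  have hF : ∀ w w' : P, cj t₂ hA₂ w = w⁻¹ → cj t₂ hA₂ w' = w'⁻¹ → Commute (φ w) (φ w') := by
    intro w w' hw hw'
    have hone : ∀ x : P, cj t₂ hA₂ x = x⁻¹ → φ (cj (u * u) h.u2_mem x) = 1 := fun x hx => by
      have h1 := (tele x).1
      rwa [hφu, hx, map_inv, mul_inv_cancel, one_mul] at h1
    set m := ⁅w, w'⁆ with hm
    set g := w' * w with hg
    have h1 : cj t₂ hA₂ m = g⁻¹ * m * g := by
      rw [hm, map_commutatorElement, hw, hw', hg, commutatorElement_def, commutatorElement_def]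
      group
    have h2 : φ (cj (u * u) h.u2_mem m) = 1 := by
      rw [hm, map_commutatorElement, map_commutatorElement, hone w hw, hone w' hw']
      simp
    have h3 := (tele m).1
    rw [hφu, h1, h2, mul_one, map_mul, map_mul, map_inv] at h3
    have hodd : Odd (Nat.card φ.range) := h.good.odd.of_dvd_nat (Subgroup.card_range_dvd φ)
    have hm1 : φ m = 1 := eq_one_of_real hodd (g := (φ g)⁻¹) (φ.range.inv_mem ⟨g, rfl⟩) ⟨m, rfl⟩
      (by rw [inv_inv]; exact eq_inv_of_mul_eq_one_right h3)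
    rw [hm, map_commutatorElement] at hm1
    exact commutatorElement_eq_one_iff_commute.mp hm1
  -- every cube is a product of two such elements
  have hcube : ∀ x : P, ∃ w w' : P, cj t₂ hA₂ w = w⁻¹ ∧ cj t₂ hA₂ w' = w'⁻¹ ∧
      φ x ^ 3 = φ w * φ w' := by
    intro x
    refine ⟨x * (cj t₂ hA₂ x)⁻¹, cj t R.t_mem x * (cj t₂ hA₂ (cj t R.t_mem x))⁻¹, ?_, ?_, ?_⟩
    · rw [map_mul, map_inv, hcjt₂]; group
    · rw [map_mul, map_inv, hcjt₂]; group
    have e : cj t₂ hA₂ (cj t R.t_mem x) = cj (u * u) h.u2_mem x := Subtype.ext (by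
      show t₂ * (t * (x : (AddMonoid.End V)ˣ) * t⁻¹) * t₂⁻¹ = u * u * x * (u * u)⁻¹
      rw [← t₂t]; group)
    rw [map_mul, map_mul, map_inv, map_inv, e, hφt, ← hφu]
    obtain ⟨h1, h2⟩ := tele x
    set a := φ x
    set b := φ (cj u R.u_mem x)
    set c := φ (cj (u * u) h.u2_mem x)
    have hbc : b * c = a⁻¹ := eq_inv_of_mul_eq_one_right (by rw [← mul_assoc]; exact h1)
    have hcb : c * b = a⁻¹ := eq_inv_of_mul_eq_one_right (by rw [← mul_assoc]; exact h2)
    have hba : b * a = a * b := by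
      have hc' : c = b⁻¹ * a⁻¹ := by rw [← hbc]; group
      rw [hc'] at hcb
      calc b * a = b * (b⁻¹ * a⁻¹ * b)⁻¹ * b⁻¹ * b := by rw [hcb]; group
        _ = a * b := by group
    have hc' : c⁻¹ = a * b := inv_eq_of_mul_eq_one_left h1
    have hcab : Commute b⁻¹ a := (show Commute b a from hba).inv_left
    rw [hc']
    calc a ^ 3 = a * (a * a * b⁻¹) * b := by simp only [pow_succ, pow_zero, one_mul]; group
      _ = a * (b⁻¹ * (a * a)) * b := by rw [(hcab.mul_right hcab).eq]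
      _ = a * b⁻¹ * (a * (a * b)) := by group
  have hpow : ∀ x : P, ∃ m : ℕ, (φ x ^ 3) ^ m = φ x := fun x =>
    exists_pow_eq_self_of_coprime (((h.good.cop.coprime_dvd_left
      ((orderOf_map_dvd φ x).trans (orderOf_dvd_natCard x))).coprime_dvd_right
        (by norm_num : 3 ∣ 6)).symm)
  have hcomm : ∀ x y : P, Commute (φ x) (φ y) := by
    intro x y
    obtain ⟨w, w', hw, hw', e⟩ := hcube x
    obtain ⟨z, z', hz, hz', e'⟩ := hcube y
    obtain ⟨m, hm⟩ := hpow x
    obtain ⟨m', hm'⟩ := hpow y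
    rw [← hm, ← hm', e, e']
    exact ((((hF _ _ hw hz).mul_right (hF _ _ hw hz')).mul_left
      ((hF _ _ hw' hz).mul_right (hF _ _ hw' hz'))).pow_pow m m')
  have := hcomm ⟨p, hp⟩ ⟨q, hq⟩
  have e := congrArg (fun g : (AddMonoid.End (fixQuo t Z))ˣ =>
    (((g : AddMonoid.End (fixQuo t Z)) ⟨v, hv⟩ : fixQuo t Z) : V)) this.eq
  exact e

/-- The main result of this file. -/
theorem Central.commute (h : Central A u t P Z) {p q : (AddMonoid.End V)ˣ} (hp : p ∈ P) (hq : q ∈ P) :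
    Commute p q := by
  refine commutatorElement_eq_one_iff_commute.mp ?_
  have H : ∀ t' : (AddMonoid.End V)ˣ, Central A u t' P Z → ∀ v ∈ fixQuo t' Z,
      ((⁅p, q⁆ : (AddMonoid.End V)ˣ) : AddMonoid.End V) v = v := by
    intro t' h' v hv
    have hv' : ((p⁻¹ * q⁻¹ : (AddMonoid.End V)ˣ) : AddMonoid.End V) v ∈ fixQuo t' Z :=
      h'.le_stab h'.rep.t_mem (P.mul_mem (P.inv_mem hp) (P.inv_mem hq)) v hv
    rw [commutatorElement_def, show p * q * p⁻¹ * q⁻¹ = p * q * (p⁻¹ * q⁻¹) by group, mul_apply',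
      h'.comm_on hp hq hv', ← mul_apply', show q * p * (p⁻¹ * q⁻¹) = 1 by group]
    rfl
  refine h.kill (fun z hz => ?_) (H t h) (H _ h.rot) (H _ h.rot.rot)
  have c1 := (h.central z hz p hp).symm
  have c2 := (h.central z hz q hq).symm
  exact ((c1.mul_left c2).mul_left c1.inv_left).mul_left c2.inv_left

end Cfsg.Agent.S3Fpf
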