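import Cfsg.Agent.S3Fpf.Central

/-!
An element commuting with the element of order three, inverted by the reflection and normalising
the abelian subgroup centralises it.
-/

set_option autoImplicit false

open Subgroup
open scoped commutatorElement

namespace Cfsg.Agent.S3Fpf

universe v

variable {V : Type v} [AddCommGroup V] [Finite V]
variable {A Z : Subgroup (AddMonoid.End V)ˣ} {u t x : (AddMonoid.End V)ˣ}

theorem conj_apply_fixQuo {g a : (AddMonoid.End V)ˣ} (hg : ∀ z ∈ Z, g⁻¹ * z * g ∈ Z) {v : V}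
    (hv : v ∈ fixQuo a Z) : (g : AddMonoid.End V) v ∈ fixQuo (g * a * g⁻¹) Z := fun y hy => by
  have e : quo (g * a * g⁻¹) y * g = g * quo a (g⁻¹ * y * g) := by simp only [quo]; group
  rw [← mul_apply', e, mul_apply', hv _ (hg y hy)]

theorem eq_one_of_inverted {X : Subgroup (AddMonoid.End V)ˣ} (hX : Odd (Nat.card X))
    {c : (AddMonoid.End V)ˣ} (hc : c ∈ X) (h : c = c⁻¹) : c = 1 :=
  eq_one_of_sq (hX.of_dvd_nat (Subgroup.orderOf_dvd_natCard X hc)) (by
    conv_lhs => arg 2; rw [h]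
    exact mul_inv_cancel c)

/-- On the three fixed spaces such an element is trivial. -/
theorem Central.fix_of_inverted (h : Central A u t Z Z) (hxu : Commute u x) (hxt : t * x * t⁻¹ = x⁻¹)
    (h6 : (orderOf x).Coprime 6) (hx : ∀ z ∈ Z, x * z * x⁻¹ ∈ Z) (hx' : ∀ z ∈ Z, x⁻¹ * z * x ∈ Z)
    {v : V} (hv : v ∈ fixQuo t Z) : (x : AddMonoid.End V) v = v := by
  have R := h.rep
  set t₂ := u * t * u⁻¹ with ht₂
  set t₃ := u * t₂ * u⁻¹ with ht₃
  set t' := x * t * x⁻¹ with ht'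
  have hneg : ∀ w ∈ fixQuo t' Z, (t' : AddMonoid.End V) w = -w := by
    intro w hw
    have h1 : ((x⁻¹ : (AddMonoid.End V)ˣ) : AddMonoid.End V) w ∈ fixQuo t Z := by
      have := conj_apply_fixQuo (g := x⁻¹) (a := t') (by simpa using hx) hw
      rwa [show x⁻¹ * t' * x⁻¹⁻¹ = t by simp only [ht']; group] at this
    rw [ht', mul_apply', mul_apply', h.t_neg h1, map_neg, apply_inv_self]
  have hstab : ∀ w ∈ fixQuo t' Z, ∀ a y, quo a y ∈ Z →
      ((quo a y : (AddMonoid.End V)ˣ) : AddMonoid.End V) w ∈ fixQuo t' Z := by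
    intro w hw a y hq z hz
    have hxA : quo t' z ∈ Z := by
      have e : quo t' z = x * quo t (x⁻¹ * z * x) * x⁻¹ := by simp only [quo, ht']; group
      rw [e]
      exact hx _ (h.quo_mem R.t_mem (hx' z hz))
    rw [← mul_apply', (h.comm hxA hq).eq, mul_apply', hw z hz]
  -- the new reflection space meets only the old one it comes from
  have hmeet : ∀ (a : (AddMonoid.End V)ˣ) (w : V), a * t' = u * u * (x⁻¹ * x⁻¹) ∨
      a * t' = u * (x⁻¹ * x⁻¹) → w ∈ fixQuo t' Z → (a : AddMonoid.End V) w = -w →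
      (u : AddMonoid.End V) w = w := by
    intro a w he hw ha
    set n := orderOf x
    have hfix : ((a * t' : (AddMonoid.End V)ˣ) : AddMonoid.End V) w = w := by
      rw [mul_apply', hneg w hw, map_neg, ha, neg_neg]
    have hn : (x⁻¹ * x⁻¹) ^ n = 1 := by
      rw [← pow_two, ← pow_mul, mul_comm, pow_mul, inv_pow, pow_orderOf_eq_one, inv_one, one_pow]
    have h3 : n.Coprime 3 := h6.coprime_dvd_right (by norm_num)
    have hcx : Commute u (x⁻¹ * x⁻¹) := hxu.inv_right.mul_right hxu.inv_right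
    have hf := fix_pow hfix n
    rcases he with he | he <;> rw [he] at hf
    · rw [(hcx.mul_left hcx).mul_pow, hn, mul_one] at hf
      obtain ⟨m, hm⟩ := exists_pow_eq_self_of_coprime (x := u) (n := 2 * n)
        ((Nat.Coprime.mul_left (by norm_num) h3).coprime_dvd_right
          (orderOf_dvd_of_pow_eq_one R.u_three))
      rw [← hm, pow_mul, pow_two]
      exact fix_pow hf m
    · rw [hcx.mul_pow, hn, mul_one] at hf
      obtain ⟨m, hm⟩ := exists_pow_eq_self_of_coprime (x := u) (n := n)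
        (h3.coprime_dvd_right (orderOf_dvd_of_pow_eq_one R.u_three))
      rw [← hm]
      exact fix_pow hf m
  have hu' : ∀ {w : V} {a : (AddMonoid.End V)ˣ}, w ∈ fixQuo a Z →
      (u : AddMonoid.End V) w ∈ fixQuo (u * a * u⁻¹) Z := fun {w a} hw =>
    conj_apply_fixQuo (fun z hz => by simpa using h.norm _ (A.inv_mem R.u_mem) z hz) hw
  have ht'' : t' = x * x * t := by
    have e : t * x⁻¹ = x * t := by
      calc t * x⁻¹ = (t * x * t⁻¹)⁻¹ * t := by group
        _ = x * t := by rw [hxt, inv_inv]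
    rw [ht', mul_assoc, e, mul_assoc]
  have hxx : x * x * t = t * (x⁻¹ * x⁻¹) := by
    have e : x * t = t * x⁻¹ := by
      calc x * t = (t * x * t⁻¹)⁻¹ * t := by rw [hxt, inv_inv]
        _ = t * x⁻¹ := by group
    rw [mul_assoc, e, ← mul_assoc, e, mul_assoc]
  have z₂ : ∀ w ∈ fixQuo t' Z, w ∈ fixQuo t₂ Z → w = 0 := by
    intro w hw hw2
    have hu := hmeet t₂ w (Or.inl (by
      rw [ht'', hxx, ← mul_assoc, ht₂, R.refl_mul_t, R.u_sq])) hw (h.rot.t_neg hw2)
    have h3 := hu' hw2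
    rw [hu] at h3
    exact h.rot.pair hw2 h3
  have z₃ : ∀ w ∈ fixQuo t' Z, w ∈ fixQuo t₃ Z → w = 0 := by
    intro w hw hw3
    have hu := hmeet t₃ w (Or.inr (by
      rw [ht'', hxx, ← mul_assoc, ht₃, ht₂]
      congr 1
      calc u * (u * t * u⁻¹) * u⁻¹ * t = u * u * t * (u * u)⁻¹ * t := by group
        _ = u * u * (t * u * t⁻¹) := by rw [R.u_sq, inv_inv, R.t_inv]; simp only [mul_assoc]
        _ = u := by rw [R.tut, mul_inv_cancel_right])) hw (h.rot.rot.t_neg hw3)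
    have h3 := hu' hw3
    rw [hu] at h3
    exact h.rot.rot.pair hw3 h3
  -- so `x` leaves the old space invariant
  have hxv : (x : AddMonoid.End V) v ∈ fixQuo t' Z := conj_apply_fixQuo hx' hv
  have hmem : (x : AddMonoid.End V) v ∈ fixQuo t Z := fun y₁ h₁ => dif_eq_zero.mp (by
    set w := dif (quo t y₁) ((x : AddMonoid.End V) v)
    have hw : w ∈ fixQuo t' Z := sub_mem (hstab _ hxv _ _ (h.quo_mem R.t_mem h₁)) hxv
    refine z₃ w hw fun y₃ h₃ => dif_eq_zero.mp ?_
    refine z₂ _ (sub_mem (hstab _ hw _ _ (h.quo_mem R.rot.rot.t_mem h₃)) hw) fun y₂ h₂ =>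
      dif_eq_zero.mp ?_
    have e := h.triple h₁ h₂ h₃ ((x : AddMonoid.End V) v)
    rw [dif_comm (h.comm (h.quo_mem R.t_mem h₁) (h.quo_mem R.rot.t_mem h₂)),
      dif_comm (h.comm (h.quo_mem R.t_mem h₁) (h.quo_mem R.rot.rot.t_mem h₃))] at e
    exact e)
  have h2 : ((x * x : (AddMonoid.End V)ˣ) : AddMonoid.End V) v = v := by
    have e1 : ((x⁻¹ : (AddMonoid.End V)ˣ) : AddMonoid.End V) v = (x : AddMonoid.End V) v := by
      rw [← hxt, R.t_inv, mul_apply', mul_apply', h.t_neg hv, map_neg, map_neg, h.t_neg hmem,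
        neg_neg]
    rw [mul_apply', ← e1, apply_inv_self]
  obtain ⟨m, hm⟩ := exists_pow_eq_self_of_coprime (x := x) (n := 2)
    (h6.coprime_dvd_right (by norm_num : 2 ∣ 6)).symm
  rw [← hm, pow_two]
  exact fix_pow h2 m

/-- An element commuting with `u`, inverted by `t` and normalising `Z` centralises it. -/
theorem Central.centralised (h : Central A u t Z Z) (hxu : Commute u x) (hxt : t * x * t⁻¹ = x⁻¹)
    (h6 : (orderOf x).Coprime 6) (hx : ∀ z ∈ Z, x * z * x⁻¹ ∈ Z) (hx' : ∀ z ∈ Z, x⁻¹ * z * x ∈ Z)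
    {k : (AddMonoid.End V)ˣ} (hk : k ∈ Z) : Commute x k := by
  refine commutatorElement_eq_one_iff_commute.mp ?_
  have hcZ : ⁅x, k⁆ ∈ Z := by
    rw [commutatorElement_def]; exact Z.mul_mem (hx k hk) (Z.inv_mem hk)
  have hrot : ∀ {s : (AddMonoid.End V)ˣ}, s * x * s⁻¹ = x⁻¹ → u * s * u⁻¹ * x * (u * s * u⁻¹)⁻¹ = x⁻¹ := by
    intro s hs
    have e1 : u⁻¹ * x * u = x := by rw [← hxu.inv_left.eq.symm, inv_mul_cancel_right]
    calc u * s * u⁻¹ * x * (u * s * u⁻¹)⁻¹ = u * (s * (u⁻¹ * x * u) * s⁻¹) * u⁻¹ := by group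
      _ = x⁻¹ := by rw [e1, hs, hxu.inv_right.eq, mul_inv_cancel_right]
  have H : ∀ s : (AddMonoid.End V)ˣ, Central A u s Z Z → s * x * s⁻¹ = x⁻¹ → ∀ v ∈ fixQuo s Z,
      ((⁅x, k⁆ : (AddMonoid.End V)ˣ) : AddMonoid.End V) v = v := by
    intro s hC hs v hv
    have hfix : ∀ {w : V}, w ∈ fixQuo s Z → (x : AddMonoid.End V) w = w := fun hw =>
      hC.fix_of_inverted hxu hs h6 hx hx' hw
    have hk1 : ((k⁻¹ : (AddMonoid.End V)ˣ) : AddMonoid.End V) v ∈ fixQuo s Z :=
      hC.le_stab hC.rep.t_mem (Z.inv_mem hk) v hv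
    rw [commutatorElement_def, mul_apply', mul_apply', mul_apply', fix_inv (hfix hk1),
      apply_inv_self, hfix hv]
  exact h.kill (fun z hz => h.comm hcZ hz) (H t h hxt) (H _ h.rot (hrot hxt))
    (H _ h.rot.rot (hrot (hrot hxt)))

end Cfsg.Agent.S3Fpf
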