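import Cfsg.Agent.S3Fpf.Basic

/-!
Fixed-point-free actions of the symmetric group of degree three: invariant subgroups of prime
power order coprime to the module are commutative.
-/

set_option autoImplicit false

open Subgroup
open scoped commutatorElement

namespace Cfsg.Agent.S3Fpf

universe v

variable {V : Type v} [AddCommGroup V] [Finite V]

/-- The difference of `g` and the identity. -/
def dif (g : (AddMonoid.End V)ˣ) (v : V) : V := (g : AddMonoid.End V) v - v

theorem dif_map_neg (g : (AddMonoid.End V)ˣ) (v : V) : dif g (-v) = -dif g v := by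
  simp only [dif, map_neg]; abel

theorem apply_dif {g h : (AddMonoid.End V)ˣ} (c : Commute h g) (v : V) :
    (h : AddMonoid.End V) (dif g v) = dif g ((h : AddMonoid.End V) v) := by
  have := congrArg (fun x : (AddMonoid.End V)ˣ => (x : AddMonoid.End V) v) c.eq
  simp only [mul_apply'] at this
  simp only [dif, map_sub, this]

theorem dif_comm {g h : (AddMonoid.End V)ˣ} (c : Commute g h) (v : V) :
    dif g (dif h v) = dif h (dif g v) := by
  show (g : AddMonoid.End V) (dif h v) - dif h v = _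
  rw [apply_dif c]
  simp only [dif, map_sub]; abel

theorem dif_eq_zero {g : (AddMonoid.End V)ˣ} {v : V} :
    dif g v = 0 ↔ (g : AddMonoid.End V) v = v := sub_eq_zero

theorem apply_eq_zero {g : (AddMonoid.End V)ˣ} {v : V} (h : (g : AddMonoid.End V) v = 0) :
    v = 0 := by
  have := congrArg ((g⁻¹ : (AddMonoid.End V)ˣ) : AddMonoid.End V) h
  rwa [inv_apply_self, map_zero] at this

/-! ### An element of order three without fixed points -/

theorem quad_of_fixed {u : (AddMonoid.End V)ˣ} (hu3 : u ^ 3 = 1)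
    (hV : ∀ v : V, (u : AddMonoid.End V) v = v → v = 0) :
    (u : AddMonoid.End V) * u + u + 1 = 0 := by
  refine AddMonoidHom.ext fun v => hV _ ?_
  have h3 : (u : AddMonoid.End V) ((u : AddMonoid.End V) ((u : AddMonoid.End V) v)) = v := by
    rw [← mul_apply', ← mul_apply', show u * u * u = u ^ 3 by
      simp only [pow_succ, pow_zero, one_mul], hu3]; rfl
  show (u : AddMonoid.End V) ((u : AddMonoid.End V) ((u : AddMonoid.End V) v)
      + (u : AddMonoid.End V) v + v) = _
  rw [map_add, map_add, h3]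
  show _ = (u : AddMonoid.End V) ((u : AddMonoid.End V) v) + (u : AddMonoid.End V) v + v
  abel

theorem fixed_by_abelian {u : (AddMonoid.End V)ˣ} (hu3 : u ^ 3 = 1)
    (hV : ∀ v : V, (u : AddMonoid.End V) v = v → v = 0) {B : Subgroup (AddMonoid.End V)ˣ}
    (hinv : ∀ p ∈ B, u * p * u⁻¹ ∈ B) (hab : ∀ p ∈ B, ∀ q ∈ B, Commute p q)
    (hcop : (Nat.card B).Coprime (Nat.card V)) {y : (AddMonoid.End V)ˣ} (hy : y ∈ B) :
    u * y * u⁻¹ = y := by
  classical
  have _i := Fintype.ofFinite B
  set a : B → (AddMonoid.End V)ˣ := fun x => (x : (AddMonoid.End V)ˣ) * (u * (x : (AddMonoid.End V)ˣ)⁻¹ * u⁻¹)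
    with ha
  set c : B → (AddMonoid.End V)ˣ := fun x => a x * (u * a x * u⁻¹) with hc
  have ham : ∀ x, a x ∈ B := fun x => B.mul_mem x.2 (hinv _ (B.inv_mem x.2))
  have hamul : ∀ x z : B, a (x * z) = a x * a z := by
    intro x z
    simp only [ha]
    have h1 := hab _ z.2 _ (hinv _ (B.inv_mem x.2))
    push_cast
    calc (x : (AddMonoid.End V)ˣ) * z * (u * (x * z : (AddMonoid.End V)ˣ)⁻¹ * u⁻¹)
        = x * z * ((u * (z : (AddMonoid.End V)ˣ)⁻¹ * u⁻¹) * (u * (x : (AddMonoid.End V)ˣ)⁻¹ * u⁻¹)) := by group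
      _ = x * z * ((u * (x : (AddMonoid.End V)ˣ)⁻¹ * u⁻¹) * (u * (z : (AddMonoid.End V)ˣ)⁻¹ * u⁻¹)) := by
          rw [(hab _ (hinv _ (B.inv_mem z.2)) _ (hinv _ (B.inv_mem x.2))).eq]
      _ = x * ((u * (x : (AddMonoid.End V)ˣ)⁻¹ * u⁻¹) * z) * (u * (z : (AddMonoid.End V)ˣ)⁻¹ * u⁻¹) := by
          rw [← h1.eq]; group
      _ = _ := by group
  have hcmul : ∀ x z : B, c (x * z) = c x * c z := by
    intro x z
    simp only [hc, hamul]
    calc a x * a z * (u * (a x * a z) * u⁻¹) = a x * (a z * (u * a x * u⁻¹)) * (u * a z * u⁻¹) := by group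
      _ = _ := by rw [(hab _ (ham z) _ (hinv _ (ham x))).eq]; group
  have hquad := quad_of_fixed hu3 hV
  have key : ∀ (x : B) (v : V), dif (c x) ((u : AddMonoid.End V) v) = -dif (a x) v := by
    intro x v
    set w := ((u⁻¹ : (AddMonoid.End V)ˣ) : AddMonoid.End V) v
    have hw : v = (u : AddMonoid.End V) w := (apply_inv_self _ _).symm
    have h1 := DFunLike.congr_fun hquad ((((x : (AddMonoid.End V)ˣ)⁻¹ : (AddMonoid.End V)ˣ) : AddMonoid.End V) w)
    have h0 := DFunLike.congr_fun hquad w
    have e1 : (x : (AddMonoid.End V)ˣ) * u * (x : (AddMonoid.End V)ˣ)⁻¹ = a x * u := by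
      simp only [ha]; group
    have e2 : (x : (AddMonoid.End V)ˣ) * (u * u) * (x : (AddMonoid.End V)ˣ)⁻¹ = c x * (u * u) := by
      simp only [hc, ha]; group
    have h2 := congrArg (((x : (AddMonoid.End V)ˣ)) : AddMonoid.End V) h1
    change ((x : (AddMonoid.End V)ˣ) : AddMonoid.End V)
      ((u : AddMonoid.End V) ((u : AddMonoid.End V) ((((x : (AddMonoid.End V)ˣ)⁻¹ : (AddMonoid.End V)ˣ) : AddMonoid.End V) w))
        + (u : AddMonoid.End V) ((((x : (AddMonoid.End V)ˣ)⁻¹ : (AddMonoid.End V)ˣ) : AddMonoid.End V) w)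
        + ((((x : (AddMonoid.End V)ˣ)⁻¹ : (AddMonoid.End V)ˣ) : AddMonoid.End V) w)) = _ at h2
    change (u : AddMonoid.End V) ((u : AddMonoid.End V) w) + (u : AddMonoid.End V) w + w = 0 at h0
    have f2 := congrArg (fun g : (AddMonoid.End V)ˣ => (g : AddMonoid.End V) w) e2
    have f1 := congrArg (fun g : (AddMonoid.End V)ˣ => (g : AddMonoid.End V) w) e1
    simp only [mul_apply'] at f1 f2
    rw [map_add, map_add, f1, f2, show ((x : (AddMonoid.End V)ˣ) : AddMonoid.End V)
      ((((x : (AddMonoid.End V)ˣ)⁻¹ : (AddMonoid.End V)ˣ) : AddMonoid.End V) w) = w from apply_inv_self _ _,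
      show (0 : AddMonoid.End V) ((((x : (AddMonoid.End V)ˣ)⁻¹ : (AddMonoid.End V)ˣ) : AddMonoid.End V) w) = 0 from rfl, map_zero] at h2
    rw [hw]
    simp only [dif]
    rw [← sub_eq_zero]
    calc _ = ((c x : (AddMonoid.End V)ˣ) : AddMonoid.End V) ((u : AddMonoid.End V) ((u : AddMonoid.End V) w))
          + ((a x : (AddMonoid.End V)ˣ) : AddMonoid.End V) ((u : AddMonoid.End V) w) + w
          - ((u : AddMonoid.End V) ((u : AddMonoid.End V) w) + (u : AddMonoid.End V) w + w) := by abel
      _ = 0 := by rw [h2, h0, sub_zero]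
  have zero : ∀ (f : B → (AddMonoid.End V)ˣ), (∀ x z, f (x * z) = f x * f z) → ∀ (x₀ : B) (v : V),
      ∑ x, dif (f x₀) ((f x : AddMonoid.End V) v) = 0 := by
    intro f hf x₀ v
    simp only [dif, Finset.sum_sub_distrib]
    refine sub_eq_zero.mpr (Fintype.sum_equiv (Equiv.mulLeft x₀) _ _ fun x => ?_)
    simp only [Equiv.coe_mulLeft, hf, mul_apply']
  have hsum : ∀ (x₀ : B) (v : V), dif (a x₀) (dif (c x₀) v) = 0 := by
    intro x₀
    suffices h : ∀ v : V, dif (a x₀) (dif (c x₀) (v + (u : AddMonoid.End V) v)) = 0 by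
      intro v
      have hv := DFunLike.congr_fun hquad ((u : AddMonoid.End V) v)
      have h3 : (u : AddMonoid.End V) ((u : AddMonoid.End V) ((u : AddMonoid.End V) v)) = v := by
        rw [← mul_apply', ← mul_apply', show u * u * u = u ^ 3 by
          simp only [pow_succ, pow_zero, one_mul], hu3]; rfl
      change (u : AddMonoid.End V) ((u : AddMonoid.End V) ((u : AddMonoid.End V) v))
        + (u : AddMonoid.End V) ((u : AddMonoid.End V) v) + (u : AddMonoid.End V) v = 0 at hv
      rw [h3] at hv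
      have h4 := h (-(u : AddMonoid.End V) v)
      rw [map_neg, show -(u : AddMonoid.End V) v + -(u : AddMonoid.End V) ((u : AddMonoid.End V) v) = v by
        rw [← neg_add]; exact neg_eq_of_add_eq_zero_left (by rw [← hv]; abel)] at h4
      exact h4
    intro v
    have hcc : Commute (a x₀) (c x₀) := hab _ (ham _) _ (B.mul_mem (ham _) (hinv _ (ham _)))
    have h1 : ∑ x, dif (a x₀) (dif (c x₀) (dif (c x) ((u : AddMonoid.End V) v)))
        = -(Fintype.card B • dif (a x₀) (dif (c x₀) ((u : AddMonoid.End V) v))) := by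
      have e : ∀ x, dif (a x₀) (dif (c x₀) (dif (c x) ((u : AddMonoid.End V) v)))
          = dif (a x₀) (dif (c x₀) ((c x : AddMonoid.End V) ((u : AddMonoid.End V) v)))
            - dif (a x₀) (dif (c x₀) ((u : AddMonoid.End V) v)) := fun x => by
        simp only [dif, map_sub]; abel
      have e' : ∑ x, dif (a x₀) (dif (c x₀) ((c x : AddMonoid.End V) ((u : AddMonoid.End V) v))) = 0 := by
        have := congrArg (dif (a x₀)) (zero c hcmul x₀ ((u : AddMonoid.End V) v))
        simpa only [dif, map_sum, map_zero, sub_zero, ← Finset.sum_sub_distrib] using this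
      rw [Finset.sum_congr rfl fun x _ => e x, Finset.sum_sub_distrib, e', Finset.sum_const,
        Finset.card_univ, zero_sub]
    have h2 : ∑ x, dif (a x₀) (dif (c x₀) (dif (c x) ((u : AddMonoid.End V) v)))
        = Fintype.card B • dif (a x₀) (dif (c x₀) v) := by
      have e : ∀ x, dif (a x₀) (dif (c x₀) (dif (c x) ((u : AddMonoid.End V) v)))
          = dif (a x₀) (dif (c x₀) v) - dif (c x₀) (dif (a x₀) ((a x : AddMonoid.End V) v)) := fun x => by
        rw [key, dif_comm hcc.symm]
        simp only [dif, map_sub, map_neg]; abel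
      have e' : ∑ x, dif (c x₀) (dif (a x₀) ((a x : AddMonoid.End V) v)) = 0 := by
        have := congrArg (dif (c x₀)) (zero a hamul x₀ v)
        simpa only [dif, map_sum, map_zero, sub_zero, ← Finset.sum_sub_distrib] using this
      rw [Finset.sum_congr rfl fun x _ => e x, Finset.sum_sub_distrib, e', Finset.sum_const,
        Finset.card_univ, sub_zero]
    refine nsmul_cancel (n := Fintype.card B) (w := 0) (Fintype.card_eq_nat_card.symm ▸ hcop) ?_
    rw [smul_zero]
    calc Fintype.card B • dif (a x₀) (dif (c x₀) (v + (u : AddMonoid.End V) v))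
        = Fintype.card B • dif (a x₀) (dif (c x₀) v)
          + Fintype.card B • dif (a x₀) (dif (c x₀) ((u : AddMonoid.End V) v)) := by
          rw [← smul_add]; congr 1; simp only [dif, map_add, map_sub]; abel
      _ = 0 := by rw [← h2, h1, neg_add_cancel]
  have hone : a ⟨y, hy⟩ = 1 := by
    refine eq_one_of_forall fun v => fixed_of_sq
      (hcop.coprime_dvd_left (Subgroup.orderOf_dvd_natCard B (ham _))) (dif_eq_zero.mp ?_)
    show dif (a ⟨y, hy⟩) (dif (a ⟨y, hy⟩) v) = 0
    have h := key ⟨y, hy⟩ v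
    rw [show dif (a ⟨y, hy⟩) v = -dif (c ⟨y, hy⟩) ((u : AddMonoid.End V) v) by rw [h, neg_neg],
      dif_map_neg, hsum, neg_zero]
  simp only [ha] at hone
  calc u * y * u⁻¹ = (u * y⁻¹ * u⁻¹)⁻¹ := by group
    _ = y := inv_eq_of_mul_eq_one_left hone

theorem fixed_by_pgroup {u : (AddMonoid.End V)ˣ} (hu3 : u ^ 3 = 1)
    (hV : ∀ v : V, (u : AddMonoid.End V) v = v → v = 0) {s : ℕ} [Fact s.Prime]
    {P : Subgroup (AddMonoid.End V)ˣ} (hP : IsPGroup s P) (hinv : ∀ p ∈ P, u * p * u⁻¹ ∈ P)
    (hcop : (Nat.card P).Coprime (Nat.card V)) (h6 : (Nat.card P).Coprime 6) :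
    ∀ p ∈ P, u * p * u⁻¹ = p := by
  induction hn : Nat.card P using Nat.strong_induction_on generalizing P with
  | _ n ih =>
  subst hn
  intro p₀ hp₀
  by_cases hab : ∀ p ∈ P, ∀ q ∈ P, Commute p q
  · exact fixed_by_abelian hu3 hV hinv hab hcop hp₀
  -- the centre is centralised
  set Z := P ⊓ centralizer (P : Set (AddMonoid.End V)ˣ)
  have hconjinv : ∀ q ∈ P, u⁻¹ * q * u⁻¹⁻¹ ∈ P := fun q hq => by
    have e : u⁻¹ = u * u := eq_comm.mp (eq_inv_of_mul_eq_one_left (by rw [← pow_two, ← pow_succ, hu3]))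
    rw [e]
    have := hinv _ (hinv q hq)
    simpa [mul_assoc] using this
  have hZinv : ∀ z ∈ Z, u * z * u⁻¹ ∈ Z := fun z hz => ⟨hinv z hz.1, mem_centralizer_iff.mpr fun q hq => by
    have h : Commute (u⁻¹ * q * u⁻¹⁻¹) z := mem_centralizer_iff.mp hz.2 _ (hconjinv q hq)
    have h' := h.map (MulAut.conj u).toMonoidHom
    simp only [MulEquiv.coe_toMonoidHom, MulAut.conj_apply] at h'
    rw [show u * (u⁻¹ * q * u⁻¹⁻¹) * u⁻¹ = q by group] at h'
    exact h'.eq⟩
  have hZ : ∀ z ∈ Z, u * z * u⁻¹ = z := fun z hz => fixed_by_abelian hu3 hV hZinv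
    (fun a ha b hb => (mem_centralizer_iff.mp ha.2 b hb.1).symm)
    (hcop.coprime_dvd_left (card_dvd_of_le inf_le_left)) hz
  have hZc : ∀ z ∈ Z, ∀ q ∈ P, Commute z q := fun z hz q hq => (mem_centralizer_iff.mp hz.2 q hq).symm
  -- the second centre is centralised
  have hsecond : ∀ y ∈ P, (∀ q ∈ P, ⁅y, q⁆ ∈ Z) → u * y * u⁻¹ = y := by
    intro y hy hyZ
    set b := u * y * u⁻¹ with hb
    set d := u * b * u⁻¹ with hd
    have hbP : b ∈ P := hinv y hy
    have hdP : d ∈ P := hinv b hbP
    have hu : u * d * u⁻¹ = y := by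
      calc u * d * u⁻¹ = u ^ 3 * y * (u ^ 3)⁻¹ := by
            simp only [hd, hb, pow_succ, pow_zero, one_mul, mul_inv_rev, mul_assoc]
        _ = y := by rw [hu3]; group
    set z := ⁅y, b⁆ with hzdef
    have hz : z ∈ Z := hyZ b hbP
    have hzb : b * d = z * (d * b) := by
      have h := hZ z hz
      rw [hzdef, commutatorElement_def] at h
      rw [hzdef, commutatorElement_def]
      conv_rhs => rw [← h]
      simp only [hd, hb]; group
    have h0 := order_three_central (T := (u : AddMonoid.End V)) (a := y) (b := b) (d := d) (z := z)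
      (quad_of_fixed hu3 hV)
      (by rw [← Units.val_mul, ← Units.val_mul]; simp only [hb, inv_mul_cancel_right])
      (by rw [← Units.val_mul, ← Units.val_mul]; simp only [hd, inv_mul_cancel_right])
      (by simp only [hzdef, commutatorElement_def]; group) hzb
      (hZc z hz y hy) (hZc z hz b hbP) (hZc z hz d hdP)
    have hdvd : orderOf z ∣ Nat.card P := Subgroup.orderOf_dvd_natCard P hz.1
    have h64 : (orderOf z).Coprime (2 * 2) := by
      have h2 : (orderOf z).Coprime 2 := (h6.coprime_dvd_left hdvd).coprime_dvd_right (by norm_num)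
      exact h2.mul_right h2
    have hgeo : ∀ k : ℕ, (orderOf z).Coprime k → ∃ e : AddMonoid.End V,
        (z : AddMonoid.End V) - 1 = ((z : AddMonoid.End V) ^ k - 1) * e
          ∧ Commute e (z : AddMonoid.End V) := by
      intro k hk
      obtain ⟨m, hm⟩ := exists_pow_eq_self_of_coprime (x := z) (n := k) hk.symm
      refine ⟨∑ i ∈ Finset.range m, ((z : AddMonoid.End V) ^ k) ^ i, ?_,
        Commute.sum_left _ _ _ fun i _ => ((Commute.refl _).pow_left k).pow_left i⟩
      rw [mul_geom_sum, ← Units.val_pow_eq_pow_val, ← Units.val_pow_eq_pow_val, hm]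
    obtain ⟨e3, he3, hc3⟩ := hgeo 3 ((h6.coprime_dvd_left hdvd).coprime_dvd_right (by norm_num))
    obtain ⟨e4, he4, hc4⟩ := hgeo 4 h64
    have hcube : ((z : AddMonoid.End V) - 1) * ((z : AddMonoid.End V) - 1) * ((z : AddMonoid.End V) - 1) = 0 := by
      have c : Commute e3 ((z : AddMonoid.End V) ^ 4 - 1) := (hc3.pow_right 4).sub_right (Commute.one_right _)
      calc _ = ((z : AddMonoid.End V) - 1) * (((z : AddMonoid.End V) ^ 3 - 1) * e3)
              * (((z : AddMonoid.End V) ^ 4 - 1) * e4) := by rw [← he3, ← he4]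
        _ = ((z : AddMonoid.End V) - 1) * ((z : AddMonoid.End V) ^ 3 - 1)
              * (e3 * ((z : AddMonoid.End V) ^ 4 - 1)) * e4 := by noncomm_ring
        _ = 0 := by rw [c.eq, ← mul_assoc, h0, zero_mul, zero_mul]
    have hz1 : z = 1 := by
      refine eq_one_of_forall fun v => fixed_of_sq (hcop.coprime_dvd_left hdvd)
        (dif_eq_zero.mp ?_)
      have h3 : dif z (dif z (dif z v)) = 0 := DFunLike.congr_fun hcube v
      exact dif_eq_zero.mpr (fixed_of_sq (hcop.coprime_dvd_left hdvd) (dif_eq_zero.mp h3))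
    have cab : Commute y b := commutatorElement_eq_one_iff_commute.mp (hzdef ▸ hz1)
    have cbd : Commute b d := by
      have := hzb; rw [hz1, one_mul] at this; exact this
    have cdy : Commute d y := by
      have h := cbd.map (MulAut.conj u).toMonoidHom
      simp only [MulEquiv.coe_toMonoidHom, MulAut.conj_apply] at h
      rwa [hu] at h
    set B := closure ({y, b, d} : Set (AddMonoid.End V)ˣ) with hB
    have hBP : B ≤ P := (closure_le _).mpr (by
      rintro g (rfl | rfl | rfl) <;> assumption)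
    refine fixed_by_abelian hu3 hV (B := B) (fun g hg => ?_) (fun g hg h hh => ?_)
      (hcop.coprime_dvd_left (card_dvd_of_le hBP)) (subset_closure (Set.mem_insert _ _))
    · have h1 := mem_map_of_mem (MulAut.conj u).toMonoidHom hg
      rw [hB, MonoidHom.map_closure] at h1
      simp only [MulEquiv.coe_toMonoidHom, MulAut.conj_apply] at h1
      refine closure_mono ?_ h1
      rintro _ ⟨g', (rfl | rfl | rfl), rfl⟩
      · exact Set.mem_insert_of_mem _ (Set.mem_insert _ _)
      · exact Set.mem_insert_of_mem _ (Set.mem_insert_of_mem _ rfl)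
      · simp only [MulAut.conj_apply, hu]; exact Set.mem_insert _ _
    · have hbase : ∀ g ∈ ({y, b, d} : Set (AddMonoid.End V)ˣ), ∀ h ∈ ({y, b, d} : Set (AddMonoid.End V)ˣ),
          Commute g h := by
        rintro g (rfl | rfl | rfl) h (rfl | rfl | rfl) <;>
          first
            | exact Commute.refl _
            | assumption
            | exact Commute.symm ‹_›
      have h1 : B ≤ centralizer (B : Set (AddMonoid.End V)ˣ) := by
        rw [hB, centralizer_closure, closure_le]
        exact fun g hg => mem_centralizer_iff.mpr fun h hh => hbase h hh g hg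
      exact (mem_centralizer_iff.mp (h1 hg) h hh).symm
  -- the subgroup of `u`-commutators
  set C := closure {g | ∃ q ∈ P, q⁻¹ * (u * q * u⁻¹) = g} with hC
  have hCP : C ≤ P := (closure_le _).mpr (by
    rintro g ⟨q, hq, rfl⟩; exact P.mul_mem (P.inv_mem hq) (hinv q hq))
  have hall : C ≠ P → ∀ q ∈ P, u * q * u⁻¹ = q := by
    intro hne q hq
    have hlt : Nat.card C < Nat.card P := lt_of_le_of_ne (Nat.le_of_dvd Nat.card_pos (card_dvd_of_le hCP))
      fun h => hne (eq_of_le_of_card_ge hCP h.ge)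
    have hCinv : ∀ g ∈ C, u * g * u⁻¹ ∈ C := fun g hg => by
      have h1 := mem_map_of_mem (MulAut.conj u).toMonoidHom hg
      rw [hC, MonoidHom.map_closure] at h1
      simp only [MulEquiv.coe_toMonoidHom, MulAut.conj_apply] at h1
      refine closure_mono ?_ h1
      rintro _ ⟨g', ⟨r, hr, rfl⟩, rfl⟩
      exact ⟨u * r * u⁻¹, hinv r hr, by simp only [MulAut.conj_apply]; group⟩
    set w := q⁻¹ * (u * q * u⁻¹) with hw
    have hwC : w ∈ C := subset_closure ⟨q, hq, rfl⟩
    have hfix := ih _ hlt (hP.to_le hCP) hCinv (hcop.coprime_dvd_left (card_dvd_of_le hCP))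
      (h6.coprime_dvd_left (card_dvd_of_le hCP)) rfl w hwC
    have h1 : u * q * u⁻¹ = q * w := by simp only [hw]; group
    have h2 : u * (u * q * u⁻¹) * u⁻¹ = q * w * w := by
      calc u * (u * q * u⁻¹) * u⁻¹ = u * (q * w) * u⁻¹ := by rw [h1]
        _ = (u * q * u⁻¹) * (u * w * u⁻¹) := by group
        _ = _ := by rw [hfix, h1]
    have h3 : q = q * w * w * w := by
      calc q = u ^ 3 * q * (u ^ 3)⁻¹ := by rw [hu3]; group
        _ = u * (u * (u * q * u⁻¹) * u⁻¹) * u⁻¹ := by
            simp only [pow_succ, pow_zero, one_mul, mul_inv_rev, mul_assoc]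
        _ = (u * q * u⁻¹) * (u * w * u⁻¹) * (u * w * u⁻¹) := by rw [h2]; group
        _ = _ := by rw [hfix, h1]
    have h4 : w ^ 3 = 1 := by
      simp only [pow_succ, pow_zero, one_mul]
      exact mul_left_cancel (a := q) (by rw [mul_one, ← mul_assoc, ← mul_assoc]; exact h3.symm)
    have h5 : w = 1 := orderOf_eq_one_iff.mp (Nat.eq_one_of_dvd_coprimes
      ((h6.coprime_dvd_left (Subgroup.orderOf_dvd_natCard P (hCP hwC))).coprime_dvd_right
        (by norm_num : 3 ∣ 6)) dvd_rfl (orderOf_dvd_of_pow_eq_one h4))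
    rw [h1, h5, mul_one]
  by_cases hCeq : C = P
  · exfalso
    -- the second centre would be central
    have hPZ : ∀ y ∈ P, (∀ q ∈ P, ⁅y, q⁆ ∈ Z) → y ∈ Z := by
      intro y hy hyZ
      have hyu := hsecond y hy hyZ
      refine ⟨hy, mem_centralizer_iff.mpr fun g hg => ?_⟩
      suffices h : P ≤ centralizer {y} from (mem_centralizer_singleton_iff.mp (h hg))
      rw [← hCeq, hC, closure_le]
      rintro g ⟨q, hq, rfl⟩
      refine mem_centralizer_singleton_iff.mpr ?_
      set e := ⁅y, q⁆ with he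
      have hec : u * e * u⁻¹ = e := hZ e (hyZ q hq)
      have h1 : y * q * y⁻¹ = e * q := by simp only [he, commutatorElement_def]; group
      have h2 : y * (u * q * u⁻¹) * y⁻¹ = e * (u * q * u⁻¹) := by
        calc y * (u * q * u⁻¹) * y⁻¹ = (u * y * u⁻¹) * (u * q * u⁻¹) * (u * y * u⁻¹)⁻¹ := by rw [hyu]
          _ = u * (y * q * y⁻¹) * u⁻¹ := by group
          _ = (u * e * u⁻¹) * (u * q * u⁻¹) := by rw [h1]; group
          _ = _ := by rw [hec]
      have h3 : y * (q⁻¹ * (u * q * u⁻¹)) * y⁻¹ = q⁻¹ * (u * q * u⁻¹) := by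
        calc y * (q⁻¹ * (u * q * u⁻¹)) * y⁻¹ = (y * q * y⁻¹)⁻¹ * (y * (u * q * u⁻¹) * y⁻¹) := by group
          _ = _ := by rw [h1, h2]; group
      exact (mul_inv_eq_iff_eq_mul.mp h3).symm
    -- but a prime power group has nontrivial central quotient centre
    set Q := P ⧸ center P
    have hQ : Nontrivial Q := by
      rw [← not_subsingleton_iff_nontrivial, QuotientGroup.subsingleton_iff]
      intro h
      refine hab fun p hp q hq => ?_
      have : (⟨p, hp⟩ : P) ∈ center P := h ▸ mem_top _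
      exact congrArg Subtype.val (mem_center_iff.mp this ⟨q, hq⟩).symm
    have := (hP.to_quotient (center P)).center_nontrivial
    obtain ⟨⟨ybar, hyb⟩, hne⟩ := exists_ne (1 : center Q)
    obtain ⟨y, rfl⟩ := QuotientGroup.mk_surjective ybar
    refine hne (Subtype.ext ((QuotientGroup.eq_one_iff y).mpr ?_))
    have hyZ : (y : (AddMonoid.End V)ˣ) ∈ Z := hPZ _ y.2 fun q hq => by
      have h1 : (⁅y, (⟨q, hq⟩ : P)⁆) ∈ center P := by
        rw [← QuotientGroup.eq_one_iff, ← QuotientGroup.mk'_apply, map_commutatorElement,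
          commutatorElement_eq_one_iff_commute]
        exact (mem_center_iff.mp hyb _).symm
      refine ⟨(⁅y, (⟨q, hq⟩ : P)⁆ : P).2, mem_centralizer_iff.mpr fun r hr => ?_⟩
      exact congrArg Subtype.val (mem_center_iff.mp h1 ⟨r, hr⟩)
    exact mem_center_iff.mpr fun r => Subtype.ext (mem_centralizer_iff.mp hyZ.2 r r.2)
  · exact hall hCeq p₀ hp₀

end Cfsg.Agent.S3Fpf
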