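import Cfsg.Agent.S3Fpf.Central

/-!
Invariant subgroups of prime power order coprime to the module are commutative.
-/

set_option autoImplicit false

open Subgroup

namespace Cfsg.Agent.S3Fpf

universe v

variable {V : Type v} [AddCommGroup V] [Finite V]

theorem isPGroup_resSub {U : AddSubgroup V} {X : Subgroup (AddMonoid.End V)ˣ} (h : X ≤ stab U)
    {s : ℕ} (hX : IsPGroup s X) : IsPGroup s (resSub U X) :=
  (hX.of_equiv (subgroupOfEquivOfLe h).symm).map _

theorem comm_fix_of_resSub {U : AddSubgroup V} {P : Subgroup (AddMonoid.End V)ˣ} (h : P ≤ stab U)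
    (hc : ∀ p ∈ resSub U P, ∀ q ∈ resSub U P, Commute p q) {p q : (AddMonoid.End V)ˣ} (hp : p ∈ P)
    (hq : q ∈ P) {v : V} (hv : v ∈ U) :
    ((p * q : (AddMonoid.End V)ˣ) : AddMonoid.End V) v
      = ((q * p : (AddMonoid.End V)ˣ) : AddMonoid.End V) v := by
  have e := (hc _ (mem_resSub (g := ⟨p, h hp⟩) hp) _ (mem_resSub (g := ⟨q, h hq⟩) hq)).eq
  exact congrArg (fun g : (AddMonoid.End U)ˣ => (((g : AddMonoid.End U) ⟨v, hv⟩ : U) : V)) e

theorem commute_of_pgroup {A P : Subgroup (AddMonoid.End V)ˣ} {u t : (AddMonoid.End V)ˣ} {s : ℕ}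
    [Fact s.Prime] (R : Rep A u t) (hG : Good A u t P) (hP : IsPGroup s P)
    (hcop : (Nat.card P).Coprime (Nat.card V)) : ∀ p ∈ P, ∀ q ∈ P, Commute p q := by
  induction hn : Nat.card P using Nat.strong_induction_on generalizing V with
  | _ n ih =>
  subst hn
  intro p hp q hq
  by_cases hP1 : P = ⊥
  · rw [hP1, mem_bot] at hp; rw [hp]; exact Commute.one_left _
  set Z := P ⊓ centralizer (P : Set (AddMonoid.End V)ˣ) with hZ
  have hZne : Z ≠ ⊥ := by
    haveI : Nontrivial P := nontrivial_iff_ne_bot P |>.mpr hP1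
    haveI := hP.center_nontrivial
    obtain ⟨z, hz⟩ := exists_ne (1 : center P)
    intro hbot
    refine hz (Subtype.ext (Subtype.ext ?_))
    have : ((z : P) : (AddMonoid.End V)ˣ) ∈ Z := ⟨(z : P).2, mem_centralizer_iff.mpr fun r hr =>
      congrArg Subtype.val (mem_center_iff.mp z.2 ⟨r, hr⟩)⟩
    rwa [hbot, mem_bot] at this
  have hZA : ∀ a ∈ A, ∀ z ∈ Z, a * z * a⁻¹ ∈ Z := fun a ha z hz =>
    ⟨hG.conj_mem ha hz.1, mem_centralizer_iff.mpr fun r hr => by
      have h' : Commute (a⁻¹ * r * a⁻¹⁻¹) z :=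
        mem_centralizer_iff.mp hz.2 _ (hG.conj_mem (A.inv_mem ha) hr)
      have h := h'.map (MulAut.conj a).toMonoidHom
      simp only [MulEquiv.coe_toMonoidHom, MulAut.conj_apply] at h
      rw [show a * (a⁻¹ * r * a⁻¹⁻¹) * a⁻¹ = r by group] at h
      exact h.eq⟩
  have hcu : ∀ a ∈ A, ∀ z : (AddMonoid.End V)ˣ, Commute u z → Commute u (a * z * a⁻¹) := by
    intro a ha z hz
    suffices h : ∀ b ∈ closure ({u, t} : Set (AddMonoid.End V)ˣ), b * u * b⁻¹ = u ∨ b * u * b⁻¹ = u⁻¹ by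
      have hh := hz.map (MulAut.conj a).toMonoidHom
      simp only [MulEquiv.coe_toMonoidHom, MulAut.conj_apply] at hh
      rcases h a (R.gen ha) with e | e <;> rw [e] at hh
      · exact hh
      · exact inv_inv u ▸ hh.inv_left
    intro b hb
    induction hb using closure_induction with
    | mem b hb =>
      rcases hb with rfl | rfl
      · exact Or.inl (by group)
      · exact Or.inr R.tut
    | one => exact Or.inl (by group)
    | mul b c _ _ ib ic =>
      have e : b * c * u * (b * c)⁻¹ = b * (c * u * c⁻¹) * b⁻¹ := by group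
      rcases ic with ec | ec <;> rw [e, ec]
      · exact ib
      · rcases ib with eb | eb
        · exact Or.inr (by rw [← conj_inv, eb])
        · exact Or.inl (by rw [← conj_inv, eb, inv_inv])
    | inv b _ ib =>
      rcases ib with eb | eb
      · exact Or.inl (by conv_lhs => rw [← eb]
                         group)
      · refine Or.inr ?_
        calc b⁻¹ * u * b⁻¹⁻¹ = b⁻¹ * (b * u * b⁻¹)⁻¹ * b := by rw [eb, inv_inv]; group
          _ = u⁻¹ := by group
  obtain ⟨Y, hYZ, hYne, hYA, hYu⟩ : ∃ Y, Y ≤ Z ∧ Y ≠ ⊥ ∧ (∀ a ∈ A, ∀ z ∈ Y, a * z * a⁻¹ ∈ Y) ∧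
      ((∀ z ∈ Y, Commute u z) ∨ (∀ z ∈ Y, Commute u z → z = 1)) := by
    by_cases h : Z ⊓ centralizer {u} = ⊥
    · refine ⟨Z, le_rfl, hZne, hZA, Or.inr fun z hz hc => ?_⟩
      exact mem_bot.mp (h ▸ mem_inf.mpr ⟨hz, mem_centralizer_singleton_iff.mpr hc.symm.eq⟩)
    · refine ⟨_, inf_le_left, h, fun a ha z hz => ?_, Or.inl fun z hz =>
        (show Commute z u from mem_centralizer_singleton_iff.mp hz.2).symm⟩
      exact ⟨hZA a ha z hz.1, mem_centralizer_singleton_iff.mpr
        (hcu a ha z (show Commute z u from mem_centralizer_singleton_iff.mp hz.2).symm).symm.eq⟩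
  have hYP : Y ≤ P := hYZ.trans inf_le_left
  have hYc : ∀ z ∈ Y, ∀ r ∈ P, Commute z r := fun z hz r hr =>
    (mem_centralizer_iff.mp (hYZ hz).2 r hr).symm
  have hYn : (Nat.card Y).Coprime (Nat.card V) := hcop.coprime_dvd_left (card_dvd_of_le hYP)
  classical
  haveI := Fintype.ofFinite Y
  -- the averaging operator
  let π : AddMonoid.End V := ∑ z : Y, ((z : (AddMonoid.End V)ˣ) : AddMonoid.End V)
  have hπ : ∀ v, π v = ∑ z : Y, ((z : (AddMonoid.End V)ˣ) : AddMonoid.End V) v := fun v =>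
    AddMonoidHom.finsetSum_apply _ _ _
  have hnorm : ∀ g : (AddMonoid.End V)ˣ, (∀ z ∈ Y, g * z * g⁻¹ ∈ Y) → ∀ v,
      π ((g : AddMonoid.End V) v) = (g : AddMonoid.End V) (π v) := by
    intro g hg v
    rw [hπ, hπ, map_sum]
    let e : Y → Y := fun z => ⟨g * z * g⁻¹, hg z z.2⟩
    have he : Function.Bijective e := Finite.injective_iff_bijective.mp fun a b h =>
      Subtype.ext (mul_left_cancel (mul_right_cancel (congrArg Subtype.val h)))
    refine (Fintype.sum_bijective e he _ _ fun z => ?_).symm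
    simp only [e, ← mul_apply', inv_mul_cancel_right]
  have hAnorm : ∀ a ∈ A, ∀ z ∈ Y, a * z * a⁻¹ ∈ Y := hYA
  have hPnorm : ∀ r ∈ P, ∀ z ∈ Y, r * z * r⁻¹ ∈ Y := fun r hr z hz => by
    rw [← (hYc z hz r hr).eq, mul_inv_cancel_right]; exact hz
  let U₀ : AddSubgroup V :=
    { carrier := {v | ∀ z ∈ Y, ((z : (AddMonoid.End V)ˣ) : AddMonoid.End V) v = v}
      zero_mem' := fun _ _ => map_zero _
      add_mem' := fun {v w} hv hw y hy => by rw [map_add, hv y hy, hw y hy]
      neg_mem' := fun {v} hv y hy => by rw [map_neg, hv y hy] }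
  let U₁ : AddSubgroup V := AddMonoidHom.ker π
  have hst₀ : ∀ g : (AddMonoid.End V)ˣ, (∀ z ∈ Y, g * z * g⁻¹ ∈ Y) → g⁻¹ ∈ normalizer (Y : Set _) →
      g ∈ stab U₀ := fun g _ hi v hv z hz => by
    have h1 := hv _ ((mem_normalizer_iff.mp hi z).mp hz)
    rw [inv_inv, mul_apply', mul_apply'] at h1
    have := congrArg (g : AddMonoid.End V) h1
    rwa [apply_inv_self] at this
  have hAY : A ≤ normalizer (Y : Set (AddMonoid.End V)ˣ) := fun a ha => by
    refine mem_normalizer_iff.mpr fun z => ⟨hYA a ha z, fun hz => ?_⟩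
    have := hYA _ (A.inv_mem ha) _ hz
    rwa [show a⁻¹ * (a * z * a⁻¹) * a⁻¹⁻¹ = z by group] at this
  have hA₀ : A ≤ stab U₀ := fun a ha => hst₀ a (hYA a ha) (hAY (A.inv_mem ha))
  have hP₀ : P ≤ stab U₀ := fun r hr v hv z hz => by
    rw [← mul_apply', (hYc z hz r hr).eq, mul_apply', hv z hz]
  have hA₁ : A ≤ stab U₁ := fun a ha v hv => AddMonoidHom.mem_ker.mpr (by
    show π _ = 0
    rw [hnorm a (hYA a ha), show π v = 0 from hv, map_zero])
  have hP₁ : P ≤ stab U₁ := fun r hr v hv => AddMonoidHom.mem_ker.mpr (by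
    show π _ = 0
    rw [hnorm r (hPnorm r hr), show π v = 0 from hv, map_zero])
  -- no fixed points of `Y` on the second summand
  have hzero : ∀ v ∈ U₁, (∀ z ∈ Y, ((z : (AddMonoid.End V)ˣ) : AddMonoid.End V) v = v) → v = 0 := by
    intro v hv hfix
    have h1 : π v = 0 := hv
    rw [hπ, Finset.sum_congr rfl fun (z : Y) _ => hfix z z.2, Finset.sum_const, Finset.card_univ,
      Fintype.card_eq_nat_card] at h1
    exact nsmul_cancel hYn (by rw [h1, smul_zero])
  -- the fixed summand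
  have h₀ : ∀ a ∈ resSub U₀ P, ∀ b ∈ resSub U₀ P, Commute a b := by
    have hlt : Nat.card (resSub U₀ P) < Nat.card P := by
      obtain ⟨z, hz, hz1⟩ := Y.ne_bot_iff_exists_ne_one.mp hYne |> fun ⟨z, h⟩ =>
        (⟨z, z.2, fun e => h (Subtype.ext e)⟩ : ∃ z, z ∈ Y ∧ z ≠ 1)
      let f : P → resSub U₀ P := fun r => ⟨res U₀ ⟨r, hP₀ r.2⟩, mem_resSub r.2⟩
      have hsurj : Function.Surjective f := fun ⟨r, hr⟩ => by
        obtain ⟨g, hg, rfl⟩ := exists_of_mem_resSub hr
        exact ⟨⟨g, hg⟩, rfl⟩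
      refine lt_of_le_of_ne (Nat.card_le_card_of_surjective f hsurj) fun e => hz1 ?_
      have hinj := ((Nat.bijective_iff_surjective_and_card f).mpr ⟨hsurj, e.symm⟩).1
      have h1 : f ⟨z, hYP hz⟩ = f 1 := Subtype.ext (by
        have e1 : res U₀ ⟨z, hP₀ (hYP hz)⟩ = 1 := (res_eq_one_iff _ _).mpr fun v hv => hv z hz
        show res U₀ ⟨z, hP₀ (hYP hz)⟩ = res U₀ ⟨((1 : P) : (AddMonoid.End V)ˣ), hP₀ (one_mem P)⟩
        rw [e1]
        exact ((res_eq_one_iff _ _).mpr fun v _ => rfl).symm)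
      exact congrArg Subtype.val (hinj h1)
    exact ih _ hlt (R.restrict hA₀) (hG.restrict R hA₀ hP₀) (isPGroup_resSub hP₀ hP)
      ((hcop.coprime_dvd_left (card_resSub_dvd hP₀)).coprime_dvd_right
        (AddSubgroup.card_addSubgroup_dvd_card U₀)) rfl
  -- the fixed-point-free summand
  have R₁ := R.restrict hA₁
  have G₁ := hG.restrict R hA₁ hP₁
  have h₁ : ∀ a ∈ resSub U₁ P, ∀ b ∈ resSub U₁ P, Commute a b := by
    rcases hYu with hfix | hfpf
    · have hV : ∀ v : U₁, ((res U₁ ⟨u, hA₁ R.u_mem⟩ : (AddMonoid.End U₁)ˣ) : AddMonoid.End U₁) v = v →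
          v = 0 := fun v hv => Subtype.ext (hzero v v.2 fun z hz =>
        hG.fix_fixed R (hYP hz) (hfix z hz) (congrArg Subtype.val hv))
      have hall := fixed_by_pgroup R₁.u_three hV (isPGroup_resSub hP₁ hP)
        (fun r hr => G₁.conj_mem R₁.u_mem hr)
        ((hcop.coprime_dvd_left (card_resSub_dvd hP₁)).coprime_dvd_right
          (AddSubgroup.card_addSubgroup_dvd_card U₁)) G₁.cop
      have hinv : ∀ r ∈ resSub U₁ P, res U₁ ⟨t, hA₁ R.t_mem⟩ * r * (res U₁ ⟨t, hA₁ R.t_mem⟩)⁻¹ = r⁻¹ :=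
        fun r hr => G₁.inverted R₁ hr (mul_inv_eq_iff_eq_mul.mp (hall r hr))
      intro a ha b hb
      have h := hinv (a * b) (mul_mem ha hb)
      rw [← conj_mul, hinv a ha, hinv b hb, mul_inv_rev] at h
      exact (show Commute a⁻¹ b⁻¹ from h).inv_inv |> fun h => by simpa using h
    · have hC : Central (resSub U₁ A) (res U₁ ⟨u, hA₁ R.u_mem⟩) (res U₁ ⟨t, hA₁ R.t_mem⟩)
          (resSub U₁ P) (resSub U₁ Y) :=
        { rep := R₁
          good := G₁
          le := fun g hg => by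
            obtain ⟨g', hg', rfl⟩ := exists_of_mem_resSub hg
            exact mem_resSub (hYP hg')
          norm := fun a ha z hz => by
            obtain ⟨a', ha', rfl⟩ := exists_of_mem_resSub ha
            obtain ⟨z', hz', rfl⟩ := exists_of_mem_resSub hz
            rw [← map_inv, ← map_mul, ← map_mul]
            exact mem_resSub (hYA _ ha' _ hz')
          central := fun z hz r hr => by
            obtain ⟨z', hz', rfl⟩ := exists_of_mem_resSub hz
            obtain ⟨r', hr', rfl⟩ := exists_of_mem_resSub hr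
            exact (show Commute z' r' from Subtype.ext (hYc _ hz' _ hr').eq).map _
          zero := fun v hv => Subtype.ext (hzero v v.2 fun z hz => congrArg Subtype.val
            (hv _ (mem_resSub (g := ⟨z, hP₁ (hYP hz)⟩) hz)))
          fpf := fun z hz hc => by
            obtain ⟨⟨x, hxs⟩, hx, rfl⟩ := exists_of_mem_resSub hz
            obtain ⟨n, hn, hcn⟩ := hG.exists_fixed R (N := triv U₁ Y) (x := x)
              (fun g hg => hYP hg.1) R.u_mem
              (fun c hc => by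
                have hcA : c ∈ A := zpowers_le.mpr R.u_mem hc
                have : Good A u t Y := ⟨hAY, fun p hp => hG.fixed p (hYP hp),
                  hG.cop.coprime_dvd_left (card_dvd_of_le hYP)⟩
                exact norm_triv hA₁ this hcA)
              ⟨Y.mul_mem (Y.inv_mem hx) (hYA u R.u_mem x hx), res_conj_eq hc⟩
            have h1 := hfpf _ (Y.mul_mem hx hn.1) hcn
            refine (res_eq_one_iff U₁ _).mpr fun v hv => ?_
            show (x : AddMonoid.End V) v = v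
            rw [show x = n⁻¹ from mul_eq_one_iff_eq_inv.mp h1]
            exact fix_inv (hn.2 v hv) }
      exact fun a ha b hb => hC.commute ha hb
  -- gluing
  refine Units.ext (AddMonoidHom.ext fun v => ?_)
  show ((p * q : (AddMonoid.End V)ˣ) : AddMonoid.End V) v
    = ((q * p : (AddMonoid.End V)ˣ) : AddMonoid.End V) v
  have hπ₀ : π v ∈ U₀ := fun z hz => by
    rw [hπ, map_sum]
    exact Fintype.sum_equiv (Equiv.mulLeft (⟨z, hz⟩ : Y)) _ _ fun x => by
      rw [← mul_apply']; rfl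
  have hπ₁ : Nat.card Y • v - π v ∈ U₁ := AddMonoidHom.mem_ker.mpr (by
    show π _ = 0
    rw [map_sub, map_nsmul, sub_eq_zero]
    conv_rhs => rw [hπ (π v)]
    rw [Finset.sum_congr rfl fun (z : Y) _ => hπ₀ z z.2, Finset.sum_const, Finset.card_univ,
      Fintype.card_eq_nat_card])
  have e₀ := comm_fix_of_resSub hP₀ h₀ hp hq hπ₀
  have e₁ := comm_fix_of_resSub hP₁ h₁ hp hq hπ₁
  simp only [map_sub, map_nsmul, e₀, sub_left_inj] at e₁
  exact nsmul_cancel hYn e₁

end Cfsg.Agent.S3Fpf
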