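import Mathlib

/-!
Ring identities for fixed-point-free symmetric-group actions on modules.

* `regular_orbit_identity` : if the translates of a commuting family by `τ i` add up to zero then
  the product of all differences vanishes (Dedekind's independence argument).
* `order_three_identity` : for `1 + T + T ^ 2 = 0`, `T a = b T`, `T b = d T`:
  `a² - (ab+ba) + (bd+db) - d² = 0`.
* `order_three_central` : with `ab = zba`, `bd = zdb`, also `(z-1)(z³-1)(z⁴-1) = 0`.
-/

set_option autoImplicit false

namespace Cfsg.Agent.S3Fpf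

variable {E : Type*} [Ring E]

theorem regular_orbit_sum {ι P : Type*} [Fintype ι] (τ : ι → E) (ρ : ι → P → E) (i₀ : ι)
    (hcomm : ∀ i j x y, Commute (ρ i x) (ρ j y)) (hτ : ∀ i x, τ i * ρ i₀ x = ρ i x * τ i)
    (hN : ∑ i, τ i = 0) (y : ι → P) :
    ∀ L : List ι, ∑ i, (L.map fun b => ρ i (y b) - ρ b (y b)).prod * τ i = 0 := by
  intro L
  induction L with
  | nil => simpa using hN
  | cons b L ih =>
    have hc : ∀ i j x, Commute (ρ j x) (L.map fun c => ρ i (y c) - ρ c (y c)).prod := by
      intro i j x
      refine Commute.list_prod_right _ _ fun e he => ?_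
      obtain ⟨c, -, rfl⟩ := List.mem_map.mp he
      exact (hcomm _ _ _ _).sub_right (hcomm _ _ _ _)
    have h1 : ∑ i, ρ i (y b) * (L.map fun c => ρ i (y c) - ρ c (y c)).prod * τ i = 0 := by
      have h := congrArg (· * ρ i₀ (y b)) ih
      simp only [zero_mul, Finset.sum_mul] at h
      rw [← h]
      refine Finset.sum_congr rfl fun i _ => ?_
      rw [(hc i i (y b)).eq, mul_assoc, mul_assoc, hτ]
    have h2 : ∑ i, ρ b (y b) * (L.map fun c => ρ i (y c) - ρ c (y c)).prod * τ i = 0 := by
      have h := congrArg (ρ b (y b) * ·) ih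
      simp only [mul_zero, Finset.mul_sum] at h
      rw [← h]
      exact Finset.sum_congr rfl fun i _ => mul_assoc _ _ _
    simp only [List.map_cons, List.prod_cons, sub_mul, Finset.sum_sub_distrib, h1, h2, sub_zero]

/-- Dedekind's independence argument. -/
theorem regular_orbit_identity {ι P : Type*} [Fintype ι] [DecidableEq ι] (τ : ι → E)
    (ρ : ι → P → E) (i₀ : ι) (hτ₀ : τ i₀ = 1)
    (hcomm : ∀ i j x y, Commute (ρ i x) (ρ j y)) (hτ : ∀ i x, τ i * ρ i₀ x = ρ i x * τ i)
    (hN : ∑ i, τ i = 0) (L : List ι) (hL : ∀ i, i ≠ i₀ → i ∈ L) (y : ι → P) :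
    (L.map fun b => ρ i₀ (y b) - ρ b (y b)).prod = 0 := by
  have h := regular_orbit_sum τ ρ i₀ hcomm hτ hN y L
  rw [Fintype.sum_eq_single i₀, hτ₀, mul_one] at h
  · exact h
  · intro i hi
    have hmem := List.mem_map_of_mem (f := fun b => ρ i (y b) - ρ b (y b)) (hL i hi)
    obtain ⟨L₁, L₂, he⟩ := List.append_of_mem hmem
    rw [he, sub_self, List.prod_append, List.prod_cons, zero_mul, mul_zero, zero_mul]

theorem order_three_identity {T a b d : E} (hT : T * T + T + 1 = 0) (hab : T * a = b * T)
    (hbd : T * b = d * T) : a * a - (a * b + b * a) + (b * d + d * b) - d * d = 0 := by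
  have e : T * T = -T - 1 := by
    have h := eq_neg_of_add_eq_zero_left hT
    calc T * T = (T * T + T) - T := by abel
      _ = -T - 1 := by rw [h]; abel
  have h3 : T * (T * T) = 1 := by
    rw [e, mul_sub, mul_neg, e, mul_one]
    abel
  set X := a - b with hX
  have hXT : X * T = T * T * X := by
    have h1 : T * T * b = (-1 - T) * b := by rw [e]; noncomm_ring
    have h2 : b = T * a * (T * T) := by rw [hab, mul_assoc, h3, mul_one]
    calc X * T = a * T - T * a := by rw [hX, sub_mul, hab]
      _ = T * T * a - a * (T * T) := by rw [e]; noncomm_ring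
      _ = T * T * a - T * (T * T) * a * (T * T) := by rw [h3, one_mul]
      _ = T * T * X := by rw [hX, mul_sub, h2]; noncomm_ring
  have hXX : X * X * T = T * (X * X) := by
    calc X * X * T = X * (T * T * X) := by rw [mul_assoc X X T, hXT]
      _ = (X * T) * T * X := by noncomm_ring
      _ = (T * T * X) * T * X := by rw [hXT]
      _ = T * T * (X * T) * X := by noncomm_ring
      _ = T * (T * (T * T)) * (X * X) := by rw [hXT]; noncomm_ring
      _ = T * (X * X) := by rw [h3, mul_one]
  have hTX : T * X = (b - d) * T := by rw [hX, mul_sub, hab, hbd, sub_mul]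
  have h4 : (b - d) * (b - d) * T = X * X * T := by
    rw [hXX, ← mul_assoc T, hTX, mul_assoc _ T, hTX, mul_assoc]
  have h5 : (b - d) * (b - d) = X * X := by
    have := congrArg (· * (T * T)) h4
    simpa only [mul_assoc, h3, mul_one] using this
  rw [← sub_eq_zero.mpr h5.symm, hX]
  noncomm_ring

theorem eliminate {R M : Type*} [CommRing R] [AddCommGroup M] [Module R M] (z : R) (A B C D : M)
    (f : ∀ k : ℕ, A - z ^ k • B + (z ^ 3) ^ k • C - (z ^ 4) ^ k • D = 0) :
    ((z - 1) * (z ^ 3 - 1) * (z ^ 4 - 1)) • A = 0 := by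
  linear_combination (norm := module) (z * z ^ 3 * z ^ 4) • f 0
    - (z * z ^ 3 + z * z ^ 4 + z ^ 3 * z ^ 4) • f 1 + (z + z ^ 3 + z ^ 4) • f 2 - f 3

theorem order_three_central {T : E} {a b d z : Eˣ} (hT : T * T + T + 1 = 0)
    (hab : T * a = b * T) (hbd : T * b = d * T) (hzab : a * b = z * (b * a))
    (hzbd : b * d = z * (d * b)) (hza : Commute z a) (hzb : Commute z b) (hzd : Commute z d) :
    ((z : E) - 1) * ((z : E) ^ 3 - 1) * ((z : E) ^ 4 - 1) = 0 := by
  have h0 := order_three_identity hT hab hbd
  set A : E := a * a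
  set B : E := a * b + b * a
  set C : E := b * d + d * b
  set D : E := d * d
  have hca : ∀ k : ℕ, ((b ^ k : Eˣ) : E) * a = ((z ^ k)⁻¹ : Eˣ) * (a * (b ^ k : Eˣ) : E) := by
    intro k
    have hk : a * b ^ k = z ^ k * (b ^ k * a) := by
      induction k with
      | zero => simp
      | succ k ih =>
        calc a * b ^ (k + 1) = (a * b ^ k) * b := by rw [pow_succ, mul_assoc]
          _ = z ^ k * b ^ k * (a * b) := by rw [ih]; simp only [mul_assoc]
          _ = z ^ k * b ^ k * (z * (b * a)) := by rw [hzab]
          _ = z ^ k * (b ^ k * z) * (b * a) := by simp only [mul_assoc]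
          _ = z ^ k * (z * b ^ k) * (b * a) := by rw [(hzb.pow_right k).eq]
          _ = z ^ (k + 1) * (b ^ (k + 1) * a) := by rw [pow_succ, pow_succ]; simp only [mul_assoc]
    rw [← Units.val_mul, ← Units.val_mul, ← Units.val_mul, hk, inv_mul_cancel_left]
  have hcd : ∀ k : ℕ, ((b ^ k : Eˣ) : E) * d = ((z ^ k : Eˣ) : E) * (d * (b ^ k : Eˣ) : E) := by
    intro k
    have hk : b ^ k * d = z ^ k * (d * b ^ k) := by
      induction k with
      | zero => simp
      | succ k ih =>
        calc b ^ (k + 1) * d = b ^ k * (b * d) := by rw [pow_succ, mul_assoc]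
          _ = b ^ k * z * (d * b) := by rw [hzbd, mul_assoc]
          _ = z * (b ^ k * d) * b := by rw [← (hzb.pow_right k).eq]; simp only [mul_assoc]
          _ = z ^ (k + 1) * (d * b ^ (k + 1)) := by
            rw [ih, pow_succ' z, pow_succ]; simp only [mul_assoc]
    rw [← Units.val_mul, ← Units.val_mul, ← Units.val_mul, hk]
  let ev : Polynomial ℤ →+* E := Polynomial.eval₂RingHom' (Int.castRingHom E) (z : E)
    (fun n => Int.cast_commute n _)
  letI : Module (Polynomial ℤ) E := Module.compHom E ev
  have hsmul : ∀ (f : Polynomial ℤ) (e : E), f • e = ev f * e := fun f e => rfl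
  have hX : ev Polynomial.X = z := by simp [ev]
  have key := eliminate (Polynomial.X : Polynomial ℤ) A B C D fun k => by
    simp only [hsmul, map_pow, hX]
    -- conjugate the identity by `b ^ k` and clear denominators
    have hb := congrArg (fun e => ((z ^ (2 * k) : Eˣ) : E) * (((b ^ k : Eˣ) : E) * e)
      * (((b ^ k)⁻¹ : Eˣ) : E)) h0
    simp only [mul_zero, zero_mul] at hb
    rw [← hb]
    have hzp : ∀ (i : ℤ) (x : Eˣ), Commute z x → Commute ((z ^ i : Eˣ) : E) (x : E) := fun i x hx =>
      (Commute.units_val (hx.zpow_left i))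
    set β : E := ((b ^ k : Eˣ) : E)
    set β' : E := (((b ^ k)⁻¹ : Eˣ) : E)
    set w : E := ((z ^ k : Eˣ) : E)
    set w' : E := (((z ^ k)⁻¹ : Eˣ) : E)
    have hββ : β * β' = 1 := Units.mul_inv _
    have hbb : β * b = b * β := by
      simp only [β, ← Units.val_mul, ← pow_succ, ← pow_succ']
    have hwa : Commute w' (a : E) := Commute.units_val (hza.pow_left k).inv_left
    have hwb : Commute w' (b : E) := Commute.units_val (hzb.pow_left k).inv_left
    have hwd : Commute w (d : E) := Commute.units_val (hzd.pow_left k)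
    have hwb' : Commute w (b : E) := Commute.units_val (hzb.pow_left k)
    have hβ'β : β' * β = 1 := Units.inv_mul _
    have ha' : β * a * β' = w' * a := by
      rw [show β * a = w' * (a * β) from hca k, mul_assoc, mul_assoc, hββ, mul_one]
    have hd' : β * d * β' = w * d := by
      rw [show β * d = w * (d * β) from hcd k, mul_assoc, mul_assoc, hββ, mul_one]
    have hb' : β * b * β' = b := by rw [hbb, mul_assoc, hββ, mul_one]
    have hconj : ∀ x y : E, β * (x * y) * β' = (β * x * β') * (β * y * β') := fun x y => by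
      calc β * (x * y) * β' = β * x * (β' * β) * y * β' := by
            rw [hβ'β, mul_one]; simp only [mul_assoc]
        _ = _ := by simp only [mul_assoc]
    have hA : β * A * β' = w' * w' * A := by
      simp only [A]
      rw [hconj, ha']
      calc w' * (a : E) * (w' * a) = w' * ((a : E) * w') * a := by simp only [mul_assoc]
        _ = w' * w' * ((a : E) * a) := by rw [← hwa.eq]; simp only [mul_assoc]
    have hB : β * B * β' = w' * B := by
      simp only [B]
      rw [mul_add β, add_mul _ _ β', hconj, hconj, ha', hb', ← mul_assoc (b : E), ← hwb.eq, mul_add]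
      simp only [mul_assoc]
    have hC : β * C * β' = w * C := by
      simp only [C]
      rw [mul_add β, add_mul _ _ β', hconj, hconj, hd', hb', ← mul_assoc (b : E), ← hwb'.eq, mul_add]
      simp only [mul_assoc]
    have hD : β * D * β' = w * w * D := by
      simp only [D]
      rw [hconj, hd']
      calc w * (d : E) * (w * d) = w * ((d : E) * w) * d := by simp only [mul_assoc]
        _ = w * w * ((d : E) * d) := by rw [← hwd.eq]; simp only [mul_assoc]
    have e2 : ((z ^ (2 * k) : Eˣ) : E) = w * w := by
      simp only [w, ← Units.val_mul, ← pow_add, two_mul]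
    have eww : w * w' = 1 := Units.mul_inv _
    have ez : (z : E) ^ k = w := by simp only [w, Units.val_pow_eq_pow_val]
    have e3 : ((z : E) ^ 3) ^ k = w * w * w := by
      rw [← pow_mul, mul_comm, pow_mul, ez]; noncomm_ring
    have e4 : ((z : E) ^ 4) ^ k = w * w * w * w := by
      rw [← pow_mul, mul_comm, pow_mul, ez]; noncomm_ring
    calc A - (z : E) ^ k * B + ((z : E) ^ 3) ^ k * C - ((z : E) ^ 4) ^ k * D
        = w * (w * w') * w' * A - w * (w * w') * B + w * w * w * C - w * w * w * w * D := by
          rw [e3, e4, ez, eww, mul_one, eww, one_mul]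
      _ = w * w * (β * A * β') - w * w * (β * B * β') + w * w * (β * C * β')
          - w * w * (β * D * β') := by rw [hA, hB, hC, hD]; noncomm_ring
      _ = ((z ^ (2 * k) : Eˣ) : E) * (β * (A - B + C - D)) * β' := by rw [e2]; noncomm_ring
  simp only [hsmul, map_mul, map_sub, map_pow, map_one, hX] at key
  exact (IsUnit.mul_left_eq_zero (a.isUnit.mul a.isUnit)).mp key

end Cfsg.Agent.S3Fpf
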