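import Cfsg.Agent.S3Fpf.PGroup
import Cfsg.Agent.S3Fpf.Abelian
import Cfsg.Agent.FixedPointFree.WardTheorem
import Cfsg.Agent.Invol.TransferLemmas

/-!
A solvable group of order prime to six with a fixed-point-free symmetric group of degree three
of automorphisms has nilpotent derived subgroup.
-/

set_option autoImplicit false

open Subgroup
open scoped commutatorElement Pointwise IsMulCommutative

namespace Cfsg.Agent.S3Fpf

open Cfsg.Agent.FixedPointFree (card_map_quotient_lt conj_mem_mul_of_map_nilpotent
  isNilpotent_of_map isNilpotent_of_two)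

universe u'

variable {Γ : Type u'} [Group Γ] [Finite Γ]

/-- The hypotheses of the theorem inside an ambient group. -/
structure Hyp (A G : Subgroup Γ) (u t : Γ) : Prop where
  u_mem : u ∈ A
  t_mem : t ∈ A
  card_dvd : Nat.card A ∣ 6
  solvA : Group.IsSolvable A
  gen : A ≤ closure {u, t}
  u_three : u ^ 3 = 1
  t_two : t * t = 1
  tut : t * u * t⁻¹ = u⁻¹
  fixed : G ⊓ centralizer (A : Set Γ) = ⊥
  cop : (Nat.card G).Coprime 6
  solv : Group.IsSolvable G

variable {A G : Subgroup Γ} {u t : Γ}

theorem Hyp.coprime (h : Hyp A G u t) {X : Subgroup Γ} (hX : X ≤ G) :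
    (Nat.card A).Coprime (Nat.card X) :=
  ((h.cop.coprime_dvd_left (card_dvd_of_le hX)).coprime_dvd_right h.card_dvd).symm

theorem Hyp.quotient (h : Hyp A G u t) (W : Subgroup Γ) [W.Normal] [G.Normal] (hWG : W ≤ G) :
    Hyp (A.map (QuotientGroup.mk' W)) (G.map (QuotientGroup.mk' W)) (QuotientGroup.mk' W u)
      (QuotientGroup.mk' W t) where
  u_mem := mem_map_of_mem _ h.u_mem
  t_mem := mem_map_of_mem _ h.t_mem
  card_dvd := (Subgroup.card_map_dvd _ _).trans h.card_dvd
  solvA := Coprime.isSolvable_map _ h.solvA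
  gen := by
    refine (map_mono h.gen).trans (le_of_eq ?_)
    rw [MonoidHom.map_closure, Set.image_pair]
  u_three := by rw [← map_pow, h.u_three, map_one]
  t_two := by rw [← map_mul, h.t_two, map_one]
  tut := by rw [← map_inv, ← map_inv, ← map_mul, ← map_mul, h.tut]
  fixed := by
    rw [← Coprime.map_inf_centralizer (QuotientGroup.mk' W) le_normalizer_of_normal
      (by rw [QuotientGroup.ker_mk']; exact hWG) (by rw [QuotientGroup.ker_mk']; exact h.coprime hWG)
      (Or.inl h.solvA), h.fixed, Subgroup.map_bot]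
  cop := h.cop.coprime_dvd_left (Subgroup.card_map_dvd _ _)
  solv := Coprime.isSolvable_map _ h.solv

/-- The action of `Γ` on a normal abelian subgroup. -/
noncomputable def action (V : Subgroup Γ) [V.Normal] [IsMulCommutative V] :
    Γ →* (AddMonoid.End (Additive V))ˣ :=
  MonoidHom.toHomUnits
    { toFun := fun g => MonoidHom.toAdditive (MulAut.conjNormal (H := V) g).toMonoidHom
      map_one' := AddMonoidHom.ext fun v => by simp; rfl
      map_mul' := fun g g' => AddMonoidHom.ext fun v => by simp; rfl }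

theorem action_apply (V : Subgroup Γ) [V.Normal] [IsMulCommutative V] (g : Γ) (v : Additive V) :
    (((Additive.toMul ((action V g : AddMonoid.End (Additive V)) v)) : V) : Γ)
      = g * ((Additive.toMul v : V) : Γ) * g⁻¹ := MulAut.conjNormal_apply ..

theorem action_eq_one_iff (V : Subgroup Γ) [V.Normal] [IsMulCommutative V] (g : Γ) :
    action V g = 1 ↔ g ∈ centralizer (V : Set Γ) := by
  rw [mem_centralizer_iff]
  constructor
  · intro h v hv
    have := action_apply V g (Additive.ofMul ⟨v, hv⟩)
    rw [h] at this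
    exact (mul_inv_eq_iff_eq_mul.mp this.symm).symm
  · intro h
    refine eq_one_of_forall fun v => ?_
    apply Additive.toMul.injective
    apply Subtype.ext
    rw [action_apply, ← h _ (Additive.toMul v).2, mul_inv_cancel_right]

theorem Hyp.repOn (h : Hyp A G u t) (V : Subgroup Γ) [V.Normal] [IsMulCommutative V] (hV : V ≤ G) :
    Rep (A.map (action V)) (action V u) (action V t) where
  u_mem := mem_map_of_mem _ h.u_mem
  t_mem := mem_map_of_mem _ h.t_mem
  card_dvd := (Subgroup.card_map_dvd _ _).trans h.card_dvd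
  solv := Coprime.isSolvable_map _ h.solvA
  gen := by
    refine (map_mono h.gen).trans (le_of_eq ?_)
    rw [MonoidHom.map_closure, Set.image_pair]
  u_three := by rw [← map_pow, h.u_three, map_one]
  t_two := by rw [← map_mul, h.t_two, map_one]
  tut := by rw [← map_inv, ← map_inv, ← map_mul, ← map_mul, h.tut]
  fixed := fun v hu ht => by
    have h1 : ∀ g : Γ, (action V g : AddMonoid.End (Additive V)) v = v →
        g ∈ centralizer {((Additive.toMul v : V) : Γ)} := fun g hg => by
      refine mem_centralizer_singleton_iff.mpr ?_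
      have := action_apply V g v
      rw [hg] at this
      exact mul_inv_eq_iff_eq_mul.mp this.symm
    have h2 : A ≤ centralizer {((Additive.toMul v : V) : Γ)} :=
      h.gen.trans ((closure_le _).mpr (Set.insert_subset (h1 u hu) (Set.singleton_subset_iff.mpr (h1 t ht))))
    have h3 : ((Additive.toMul v : V) : Γ) ∈ G ⊓ centralizer (A : Set Γ) :=
      ⟨hV (Additive.toMul v).2, mem_centralizer_iff.mpr fun a ha =>
        mem_centralizer_singleton_iff.mp (h2 ha)⟩
    rw [h.fixed, mem_bot] at h3
    apply Additive.toMul.injective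
    exact Subtype.ext h3
  cop := by
    rw [show Nat.card (Additive V) = Nat.card V from Nat.card_congr Additive.toMul]
    exact h.cop.coprime_dvd_left (card_dvd_of_le hV)

theorem Hyp.goodOn (h : Hyp A G u t) (V : Subgroup Γ) [V.Normal] [IsMulCommutative V] {X : Subgroup Γ}
    (hX : X ≤ G) (hA : A ≤ normalizer (X : Set Γ)) :
    Good (A.map (action V)) (action V u) (action V t) (X.map (action V)) where
  norm := by
    rintro _ ⟨a, ha, rfl⟩
    refine mem_normalizer_of_forall ?_
    rintro _ ⟨x, hx, rfl⟩
    exact ⟨a * x * a⁻¹, (mem_normalizer_iff.mp (hA ha) x).mp hx, by simp [map_mul, map_inv]⟩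
  fixed := by
    rintro _ ⟨x, hx, rfl⟩ hu ht
    have hall : A ≤ (centralizer {action V x}).comap (action V) :=
      h.gen.trans ((closure_le _).mpr (Set.insert_subset
        (mem_comap.mpr (mem_centralizer_singleton_iff.mpr hu.eq))
        (Set.singleton_subset_iff.mpr (mem_comap.mpr (mem_centralizer_singleton_iff.mpr ht.eq)))))
    set N := X ⊓ centralizer (V : Set Γ)
    obtain ⟨n, hn, hc⟩ := Coprime.exists_fixed_mem_leftCoset (A := A) (N := N) (k := x)
      (Coprime.le_normalizer_inf hA (Coprime.le_normalizer_centralizer le_normalizer_of_normal))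
      (h.coprime (inf_le_left.trans hX)) (Or.inl h.solvA) fun a ha => by
        refine ⟨X.mul_mem (X.inv_mem hx) ((mem_normalizer_iff.mp (hA ha) x).mp hx), ?_⟩
        refine (action_eq_one_iff V _).mp ?_
        have h1 : action V a * action V x = action V x * action V a :=
          mem_centralizer_singleton_iff.mp (mem_comap.mp (hall ha))
        rw [map_mul, map_mul, map_mul, map_inv, map_inv, h1]; group
    have h2 : x * n ∈ G ⊓ centralizer (A : Set Γ) := ⟨hX (X.mul_mem hx hn.1), hc⟩
    rw [h.fixed, mem_bot, mul_eq_one_iff_eq_inv] at h2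
    rw [h2, map_inv, (action_eq_one_iff V n).mpr hn.2, inv_one]
  cop := h.cop.coprime_dvd_left ((Subgroup.card_map_dvd _ _).trans (card_dvd_of_le hX))

theorem s3_aux : ∀ n : ℕ, ∀ {Δ : Type u'} [Group Δ] [Finite Δ] (A G : Subgroup Δ) [G.Normal] (u t : Δ),
    Hyp A G u t → Nat.card G ≤ n → Group.IsNilpotent (⁅G, G⁆ : Subgroup Δ) := by
  intro n
  induction n with
  | zero => intro Δ _ _ A G _ u t _ h; exact absurd h (by have := Nat.card_pos (α := G); omega)
  | succ n ih =>
    intro Δ _ _ A G hGn u t hw hn
    set K : Subgroup Δ := ⁅G, G⁆ with hK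
    have hKn : K.Normal := inferInstance
    have hKG : K ≤ G := Subgroup.commutator_le_right G G
    by_cases hG : G = ⊥
    · have : K = ⊥ := le_bot_iff.mp (hKG.trans hG.le)
      rw [this]
      infer_instance
    have hred : ∀ (W : Subgroup Δ) [W.Normal], W ≤ G → W ≠ ⊥ →
        Group.IsNilpotent (K.map (QuotientGroup.mk' W)) := by
      intro W _ hWG hW
      have := hGn.map (QuotientGroup.mk' W) (QuotientGroup.mk'_surjective W)
      rw [hK, map_commutator]
      exact ih _ _ _ _ (hw.quotient W hWG)
        (Nat.lt_succ_iff.mp ((card_map_quotient_lt hWG hW).trans_le hn))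
    obtain ⟨V, hVG, hV⟩ := Core.exists_isMinNormal_le hG
    have := hV.normal
    have : Group.IsSolvable V := Core.isSolvable_mono hw.solv hVG
    have := hV.isMulCommutative
    obtain ⟨l, hl, hVl, -⟩ := hV.exists_isPGroup
    rcases hV.le_or_inf_eq_bot K with hVK | hVK
    swap
    · exact isNilpotent_of_two (W₁ := V) (W₂ := V)
        (by rw [inf_comm K V, hVK, bot_inf_eq]) (hred V hVG hV.ne_bot) (hred V hVG hV.ne_bot)
    by_contra hnot
    refine hnot (isNilpotent_of_map hVK (hred V hVG hV.ne_bot) hl hVl fun q hq hql => ?_)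
    have := Fact.mk hq
    have := Fact.mk hl
    obtain ⟨S, hAS⟩ := Coprime.exists_invariant_sylow (p := q) (A := A) (K := K)
      le_normalizer_of_normal (hw.coprime hKG) (Or.inl hw.solvA)
    refine ⟨S, ?_⟩
    set S' := (S : Subgroup K).map K.subtype with hS'
    by_contra hSV
    have hS'K : S' ≤ K := map_subtype_le _
    have hS'q : IsPGroup q S' := S.2.map _
    have hcopq : ∀ {X : Subgroup Δ}, IsPGroup q X → (Nat.card X).Coprime (Nat.card V) := fun hX => by
      obtain ⟨a, ha⟩ := hX.exists_card_eq
      obtain ⟨b, hb⟩ := hVl.exists_card_eq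
      rw [ha, hb]
      exact ((Nat.coprime_primes hq hl).mpr hql).pow a b
    have hcop : (Nat.card S').Coprime (Nat.card V) := hcopq hS'q
    have hSVn : S' ≤ normalizer (V : Set Δ) := le_normalizer_of_normal
    have hconj : ∀ g : Δ, ∀ s ∈ S', ∃ s' ∈ S', ∃ v ∈ V, g * s * g⁻¹ = s' * v := fun g s hs =>
      conj_mem_mul_of_map_nilpotent hVK (hred V hVG hV.ne_bot) S
        (by rw [normalizer_eq_top_iff.mpr hKn]; exact mem_top g) hs
    have hCn : (V ⊓ centralizer (S' : Set Δ)).Normal := by
      refine ⟨fun v hv g => ⟨(inferInstance : V.Normal).conj_mem v hv.1 g, fun s hs => ?_⟩⟩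
      obtain ⟨s', hs', v', hv', he⟩ := hconj g⁻¹ s hs
      rw [inv_inv] at he
      have h1 : Commute v (g⁻¹ * s * g) := he ▸
        ((show Commute v s' from (hv.2 s' hs').symm).mul_right (setLike_mul_comm hv.1 hv'))
      calc s * (g * v * g⁻¹) = g * ((g⁻¹ * s * g) * v) * g⁻¹ := by group
        _ = g * v * g⁻¹ * s := by rw [← h1.eq]; group
    rcases hV.eq_of_le _ hCn inf_le_left with hC | hC
    swap
    · exact hSV (le_centralizer_iff.mp (inf_eq_left.mp hC))
    have hDn : (S' ⊓ centralizer (V : Set Δ)).Normal := by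
      refine ⟨fun s hs g => ?_⟩
      obtain ⟨s', hs', v', hv', he⟩ := hconj g s hs.1
      have h1 : g * s * g⁻¹ ∈ centralizer (V : Set Δ) :=
        (inferInstance : (centralizer (V : Set Δ)).Normal).conj_mem s hs.2 g
      have h2 : s' ∈ centralizer (V : Set Δ) := by
        have hv2 : v' ∈ centralizer (V : Set Δ) := fun w hw => setLike_mul_comm hw hv'
        rw [he] at h1
        exact (mul_mem_cancel_right hv2).mp h1
      have h3 : Commute s' v' := (mem_centralizer_iff.mp h2 v' hv').symm
      have hv1 : v' = 1 := by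
        have hsq : ∀ x ∈ S', orderOf x ∣ Nat.card S' := fun x hx => Subgroup.orderOf_dvd_natCard S' hx
        have h4 : (s' * v') ^ Nat.card S' = 1 := by
          rw [← he, conj_pow, orderOf_dvd_iff_pow_eq_one.mp (hsq s hs.1)]; group
        rw [h3.mul_pow, orderOf_dvd_iff_pow_eq_one.mp (hsq s' hs'), one_mul] at h4
        exact orderOf_eq_one_iff.mp (Nat.eq_one_of_dvd_coprimes hcop (orderOf_dvd_of_pow_eq_one h4)
          (Subgroup.orderOf_dvd_natCard V hv'))
      rw [he, hv1, mul_one]
      exact ⟨hs', h2⟩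
    by_cases hD : S' ⊓ centralizer (V : Set Δ) = ⊥
    swap
    · refine hnot (isNilpotent_of_two (W₁ := V) (W₂ := S' ⊓ centralizer (V : Set Δ)) ?_
        (hred V hVG hV.ne_bot) (hred _ (inf_le_left.trans (hS'K.trans hKG)) hD))
      rw [eq_bot_iff]
      intro x hx
      rw [← Coprime.inf_eq_bot_of_coprime hcop]
      exact ⟨hx.2.1, hx.1.2⟩
    set N := G ⊓ normalizer (S' : Set Δ) with hN
    set π := QuotientGroup.mk' V with hπ
    have hAN : A ≤ normalizer (N : Set Δ) :=
      Coprime.le_normalizer_inf le_normalizer_of_normal (hAS.trans le_normalizer)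
    -- the Frattini argument
    have hNG : N.map π = G.map π := by
      refine le_antisymm (map_mono inf_le_left) ?_
      rintro _ ⟨g, hg, rfl⟩
      have hB : MulAut.conj g • S' ≤ V ⊔ S' := by
        intro y hy
        obtain ⟨s', hs', v, hv, he⟩ := hconj g _ (Coprime.mem_conj_smul.mp hy)
        have : y = s' * v := by rw [← he]; group
        rw [this]
        exact mul_mem (le_sup_right (a := V) hs') (le_sup_left (b := S') hv)
      obtain ⟨v, hv, hvB⟩ := Coprime.exists_conj_eq hSVn hcop (Or.inr inferInstance) hB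
        (Coprime.card_conj_smul g S')
      rw [← Coprime.conj_mul_smul] at hvB
      refine ⟨v * g, ⟨G.mul_mem (hVG hv) hg, Coprime.mem_normalizer_of_conj_smul_eq hvB⟩, ?_⟩
      rw [map_mul, show π v = 1 from (QuotientGroup.eq_one_iff v).mpr hv, one_mul]
    -- the action on `V`
    set Φ := action V with hΦ
    have hΦcard : ∀ {X : Subgroup Δ}, IsPGroup q X →
        (Nat.card (X.map Φ)).Coprime (Nat.card (Additive V)) := fun hX => by
      rw [show Nat.card (Additive V) = Nat.card V from Nat.card_congr Additive.toMul]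
      exact (hcopq hX).coprime_dvd_left (Subgroup.card_map_dvd _ _)
    have hR := hw.repOn V hVG
    have hS'G : S' ≤ G := hS'K.trans hKG
    have hGS := hw.goodOn V hS'G hAS
    have hSab : ∀ a ∈ S'.map Φ, ∀ b ∈ S'.map Φ, Commute a b :=
      commute_of_pgroup hR hGS (hS'q.map _) (hΦcard hS'q)
    have hinj : ∀ {x : Δ}, x ∈ S' → Φ x = 1 → x = 1 := fun hx h1 => by
      rw [← mem_bot, ← hD]; exact ⟨hx, (action_eq_one_iff V _).mp h1⟩
    have hcomm_of : ∀ {g s : Δ}, g ∈ normalizer (S' : Set Δ) → s ∈ S' → Commute (Φ g) (Φ s) →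
        Commute g s := fun {g s} hg hs hc => by
      refine commutatorElement_eq_one_iff_commute.mp (hinj ?_ ?_)
      · rw [commutatorElement_def]; exact S'.mul_mem ((mem_normalizer_iff.mp hg s).mp hs) (S'.inv_mem hs)
      · rw [map_commutatorElement]; exact commutatorElement_eq_one_iff_commute.mpr hc
    have hSN : S' ≤ N := le_inf hS'G le_normalizer
    -- every invariant Sylow subgroup of `N` centralises `S'`
    obtain ⟨P, hP⟩ := Coprime.exists_invariant_sylow (p := q) hAN (hw.coprime inf_le_left)
      (Or.inl hw.solvA)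
    set P' := (P : Subgroup N).map N.subtype with hP'
    have hP'N : P' ≤ N := map_subtype_le _
    have hP'q : IsPGroup q P' := P.2.map _
    have hSP : S' ≤ P' := by
      intro x hx
      have hnorm : (S'.subgroupOf N).Normal := by
        refine ⟨fun s hs g => mem_subgroupOf.mpr ?_⟩
        exact (mem_normalizer_iff.mp g.2.2 (s : Δ)).mp (mem_subgroupOf.mp hs)
      obtain ⟨T, hT⟩ := (hS'q.comap_subtype (K := N) : IsPGroup q (S'.subgroupOf N)).exists_le_sylow
      obtain ⟨g, hg⟩ := MulAction.exists_smul_eq N T P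
      refine ⟨⟨x, hSN hx⟩, ?_, rfl⟩
      rw [← hg, Sylow.coe_subgroup_smul]
      have h1 : MulAut.conj g • (S'.subgroupOf N) ≤ MulAut.conj g • (T : Subgroup N) :=
        Subgroup.pointwise_smul_le_pointwise_smul_iff.mpr hT
      refine h1 ?_
      refine Coprime.mem_conj_smul.mpr ?_
      simpa using hnorm.conj_mem ⟨x, hSN hx⟩ (mem_subgroupOf.mpr hx) g⁻¹
    have hPab : ∀ a ∈ P'.map Φ, ∀ b ∈ P'.map Φ, Commute a b :=
      commute_of_pgroup hR (hw.goodOn V (hP'N.trans inf_le_left) hP) (hP'q.map _) (hΦcard hP'q)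
    have hNS : N ≤ centralizer (S' : Set Δ) := by
      refine Coprime.le_of_forall_sylow_le fun r hr => ?_
      have := Fact.mk hr
      by_cases hrq : r = q
      · subst hrq
        refine ⟨P, fun x hx => mem_centralizer_iff.mpr fun s hs => ?_⟩
        exact (hcomm_of (hP'N hx).2 hs
          (hPab _ (mem_map_of_mem _ hx) _ (mem_map_of_mem _ (hSP hs)))).eq.symm
      · obtain ⟨R, hRA⟩ := Coprime.exists_invariant_sylow (p := r) hAN (hw.coprime inf_le_left)
          (Or.inl hw.solvA)
        refine ⟨R, fun x hx => mem_centralizer_iff.mpr fun s hs => ?_⟩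
        have hRN : (R : Subgroup N).map N.subtype ≤ N := map_subtype_le _
        have hXcop : (Nat.card (((R : Subgroup N).map N.subtype).map Φ)).Coprime
            (Nat.card (S'.map Φ)) := by
          obtain ⟨a, ha⟩ := ((R.2.map N.subtype).map Φ).exists_card_eq
          obtain ⟨b, hb⟩ := (hS'q.map Φ).exists_card_eq
          rw [ha, hb]
          exact ((Nat.coprime_primes hr hq).mpr hrq).pow a b
        have hmain := centralised_of_abelian hR hGS (hw.goodOn V (hRN.trans inf_le_left) hRA) hSab
          (by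
            rintro _ ⟨g, hg, rfl⟩ _ ⟨a, ha, rfl⟩
            exact ⟨g * a * g⁻¹, (mem_normalizer_iff.mp (hRN hg).2 a).mp ha, by simp [map_mul, map_inv]⟩)
          (hΦcard hS'q) hXcop ((R.2.map N.subtype).map Φ)
        exact (hcomm_of (hRN hx).2 hs (hmain _ (mem_map_of_mem _ hx) _ (mem_map_of_mem _ hs))).eq.symm
    -- transfer in the quotient
    set M := N.map π with hM
    have hSM : S'.map π ≤ M := map_mono hSN
    let H : Sylow q M := P.mapSurjective (π.subgroupMap_surjective N)
    haveI hcP : IsMulCommutative (P'.map Φ) := ⟨⟨fun a b => Subtype.ext (hPab a a.2 b b.2).eq⟩⟩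
    have hker : V ≤ Φ.ker := fun v hv =>
      MonoidHom.mem_ker.mpr ((action_eq_one_iff V v).mpr fun w hw => setLike_mul_comm hw hv)
    let Φ' := QuotientGroup.lift V Φ hker
    have hHmem : ∀ y : (H : Subgroup M), Φ' ((y : M) : Δ ⧸ V) ∈ P'.map Φ := by
      rintro ⟨y, hy⟩
      change y ∈ (P : Subgroup N).map (π.subgroupMap N) at hy
      obtain ⟨p, hp, rfl⟩ := hy
      exact ⟨p, mem_map_of_mem N.subtype hp, rfl⟩
    let f : (H : Subgroup M) →* P'.map Φ :=
      ((Φ'.comp M.subtype).comp (H : Subgroup M).subtype).codRestrict _ hHmem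
    refine hSV fun s hs => ?_
    suffices hs1 : s = 1 by rw [hs1]; exact one_mem _
    set sM : M := ⟨π s, hSM (mem_map_of_mem π hs)⟩ with hsM
    have hsH : sM ∈ (H : Subgroup M) := by
      change sM ∈ (P : Subgroup N).map (π.subgroupMap N)
      obtain ⟨p, hp, he⟩ := hSP hs
      exact ⟨p, hp, Subtype.ext (congrArg π he)⟩
    have hcen : sM ∈ center M := by
      refine mem_center_iff.mpr ?_
      rintro ⟨_, g, hg, rfl⟩
      refine Subtype.ext ?_
      show π g * π s = π s * π g
      rw [← map_mul, ← map_mul, mem_centralizer_iff.mp (hNS hg) s hs]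
    have hsder : sM ∈ commutator M := by
      have h1 : π s ∈ (commutator M).map M.subtype := by
        rw [map_subtype_commutator, hNG, ← map_commutator]
        exact mem_map_of_mem π (hS'K hs)
      obtain ⟨y, hy, he⟩ := h1
      exact (Subtype.ext he : y = sM) ▸ hy
    have ht := Invol.map_pow_index_eq_one_of_mem_commutator f ⟨sM, hsH⟩ hcen hsder
    have hcop' : (Nat.card (P'.map Φ)).Coprime (H : Subgroup M).index := by
      obtain ⟨a, ha⟩ := (hP'q.map Φ).exists_card_eq
      rw [ha]
      exact ((hq.coprime_iff_not_dvd).mpr H.not_dvd_index).pow_left a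
    have hf1 : f ⟨sM, hsH⟩ = 1 := (Nat.Coprime.pow_left_bijective hcop').1 (by simpa using ht)
    exact hinj hs (congrArg Subtype.val hf1)

end Cfsg.Agent.S3Fpf
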